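import Cfsg.Agent.H16.CertArr

/-!
Checked certificates of coset enumerations, for generators paired with their inverses.

A certificate lists facts `node a · l = node b`, each either a definition of `node b` or obtained by
closing a word along earlier facts.
-/

set_option autoImplicit false

namespace Cfsg.Agent.H68.J1

open Cfsg.Agent.H16

/-- the inverse letter -/
def inv (l : Nat) : Nat := Nat.xor l 1

/-- The data of a certificate; letters are below 8, and 8 marks an equality of nodes. -/
structure Cert where
  /-- number of cosets -/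
  n : Nat
  /-- number of facts -/
  nf : Nat
  /-- number of words -/
  nw : Nat
  /-- relators, then subgroup words, then trivial words -/
  words : WTree
  /-- number of relators -/
  nrel : Nat
  /-- number of relators and subgroup words -/
  nsub : Nat
  /-- fact records -/
  facts : PArr
  /-- references to earlier facts -/
  refs : PArr
  /-- definition of a node: parent and letter -/
  defs : PArr
  /-- node representing a coset -/
  rep : PArr
  /-- entry `8 * i + l`: image coset and fact -/
  table : PArr

namespace Cert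

variable (D : Cert)

/-- record `i` -/
noncomputable def rec' (i : Nat) : Nat := D.facts.get 90 i
/-- first end of a fact -/
noncomputable def fa (x : Nat) : Nat := bitField x 0 13
/-- letter of a fact -/
noncomputable def fl (x : Nat) : Nat := bitField x 13 4
/-- second end of a fact -/
noncomputable def fb (x : Nat) : Nat := bitField x 17 13
/-- word of a fact, 63 for a definition -/
noncomputable def fw (x : Nat) : Nat := bitField x 30 6
/-- start node of a fact -/
noncomputable def fz (x : Nat) : Nat := bitField x 36 13
/-- length of the first walk -/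
noncomputable def flu (x : Nat) : Nat := bitField x 49 6
/-- length of the second walk -/
noncomputable def flv (x : Nat) : Nat := bitField x 55 6
/-- offset in the references -/
noncomputable def foff (x : Nat) : Nat := bitField x 61 20

/-- add a letter to the result of a walk -/
noncomputable def push (l : Nat) (o : Option (Nat × List Nat)) : Option (Nat × List Nat) :=
  Option.rec (motive := fun _ => Option (Nat × List Nat)) none
    (fun p => forceNat l fun l => Bool.rec (some (p.1, l :: p.2)) (some p) (Nat.beq l 8)) o

/-- the letter of a step against the direction of a fact -/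
noncomputable def back (l : Nat) : Nat := Bool.rec (inv l) 8 (Nat.beq l 8)

/-- Follow referenced facts numbered below `bound`. -/
noncomputable def walk (bound k : Nat) : Nat → Nat → Option (Nat × List Nat) :=
  Nat.rec (motive := fun _ => Nat → Nat → Option (Nat × List Nat)) (fun _ cur => some (cur, []))
    (fun _ ih off cur =>
      forceNat off fun off =>
      forceNat cur fun cur =>
      forceNat (D.refs.get 18 off) fun r =>
      forceNat (D.rec' r) fun x =>
      Bool.rec none
        (Bool.rec
          (Bool.rec none (push (back (fl x)) (ih (Nat.succ off) (fa x)))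
            (Nat.beq (fb x) cur && Nat.ble (fl x) 8))
          (push (fl x) (ih (Nat.succ off) (fb x)))
          (Nat.beq (fa x) cur && Nat.ble (fl x) 8))
        (Nat.ble (Nat.succ r) bound)) k

/-- the word read off from two walks and a letter -/
noncomputable def cycleWord (l : Nat) (u v : List Nat) : List Nat :=
  u ++ (Bool.rec (l :: (v.map inv).reverse) (v.map inv).reverse (Nat.beq l 8) : List Nat)

/-- Check of a fact that closes a word. -/
noncomputable def checkScan (x : Nat) (p q : Option (Nat × List Nat)) : Bool :=
  Option.rec (motive := fun _ => Bool) false (fun au =>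
    Option.rec (motive := fun _ => Bool) false (fun bv =>
      Nat.beq au.1 (fa x) && Nat.beq bv.1 (fb x) && Nat.ble (fl x) 8 &&
        (Nat.ble (Nat.succ (fw x)) D.nrel || Nat.beq (fz x) 0 ||
          Nat.ble D.nsub (fw x)) && Nat.ble (Nat.succ (fw x)) D.nw &&
        natListEq (D.words.get (fw x)) (cycleWord (fl x) au.2 bv.2)) q) p

/-- Check of one fact. -/
noncomputable def checkFact (i : Nat) : Bool :=
  forceNat (D.rec' i) fun x =>
  Bool.rec
    (forceNat (fz x) fun z =>
      forceNat (flu x) fun lu =>
      forceNat (foff x) fun off =>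
      D.checkScan x (D.walk i lu off z) (D.walk i (flv x) (Nat.add off lu) z))
    (forceNat (D.defs.get 17 (fb x)) fun d =>
      Nat.beq (bitField d 0 13) (fa x) && Nat.beq (bitField d 13 4) (fl x) &&
        Nat.ble (Nat.succ (fa x)) (fb x) && Nat.ble (Nat.succ (fl x)) 8)
    (Nat.beq (fw x) 63)

/-- node representing coset `i` -/
noncomputable def repNode (i : Nat) : Nat := D.rep.get 13 i

/-- Check of the table at coset `i`. -/
noncomputable def checkRow (i : Nat) : Bool :=
  allFrom (fun l =>
    forceNat (D.table.get 36 (Nat.add (Nat.mul i 8) l)) fun e =>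
    forceNat (bitField e 0 12) fun d =>
    forceNat (bitField e 12 24) fun f =>
    forceNat (D.rec' f) fun x =>
    Nat.ble (Nat.succ d) D.n && Nat.ble (Nat.succ f) D.nf &&
      ((Nat.beq (fl x) l && Nat.beq (fa x) (D.repNode i) && Nat.beq (fb x) (D.repNode d)) ||
        (Nat.beq (fl x) (inv l) && Nat.beq (fb x) (D.repNode i) &&
          Nat.beq (fa x) (D.repNode d)))) 8 0

/-- A certificate whose checks all succeed. -/
structure Valid : Prop where
  facts_ok : ∀ i, i < D.nf → D.checkFact i = true
  rows_ok : ∀ i, i < D.n → D.checkRow i = true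
  base_ok : (Nat.ble 1 D.n && Nat.beq (D.repNode 0) 0) = true

/-! ### Soundness -/

variable {G : Type*} [Group G] (s : Nat → G)

/-- product of a word -/
def ev : List Nat → G
  | [] => 1
  | l :: w => s l * ev w

theorem ev_append : ∀ u v : List Nat, ev s (u ++ v) = ev s u * ev s v
  | [], v => by simp [ev]
  | l :: u, v => by simp [ev, ev_append u v, mul_assoc]

theorem ev_inv_reverse (hs : ∀ l, s (inv l) = (s l)⁻¹) :
    ∀ v : List Nat, ev s (v.map inv).reverse = (ev s v)⁻¹
  | [] => by simp [ev]
  | l :: v => by
    rw [List.map_cons, List.reverse_cons, ev_append, ev_inv_reverse hs v]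
    simp [ev, hs]

variable (C : Subgroup G)

/-- the node map: left cosets, moved by inverses of the letters -/
noncomputable def node (b : Nat) : G ⧸ C :=
  if h : bitField (D.defs.get 17 b) 0 13 < b then
    (s (bitField (D.defs.get 17 b) 13 4))⁻¹ • node (bitField (D.defs.get 17 b) 0 13)
  else ((1 : G) : G ⧸ C)
  termination_by b

theorem node_zero : D.node s C 0 = ((1 : G) : G ⧸ C) := by
  rw [node, dif_neg (Nat.not_lt_zero _)]

/-- what a fact says -/
def Holds (a l b : Nat) : Prop :=
  if l = 8 then D.node s C a = D.node s C b else (s l)⁻¹ • D.node s C a = D.node s C b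

theorem inv_ne_eight {l : Nat} (hl : l ≤ 8) : inv l ≠ 8 := by
  interval_cases l <;> decide

theorem Holds.back (hs : ∀ l, s (inv l) = (s l)⁻¹) {a l b : Nat} (hl : l ≤ 8)
    (h : D.Holds s C a l b) : D.Holds s C b (Cert.back l) a := by
  unfold Holds at *
  by_cases he : l = 8
  · subst he
    rw [if_pos rfl] at h
    exact h.symm
  · rw [if_neg he] at h
    have hb : Cert.back l = inv l := by
      cases hq : Nat.beq l 8 with
      | true => exact absurd (Nat.eq_of_beq_eq_true hq) he
      | false => simp [Cert.back, hq]
    rw [hb, if_neg (inv_ne_eight hl), ← h, hs, inv_inv, smul_inv_smul]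

theorem push_sound {cur c e l : Nat} {w : List Nat} {o : Option (Nat × List Nat)}
    (hc : D.Holds s C cur l c)
    (ho : ∀ e' w', o = some (e', w') → D.node s C e' = (ev s w')⁻¹ • D.node s C c)
    (h : push l o = some (e, w)) : D.node s C e = (ev s w)⁻¹ • D.node s C cur := by
  rcases o with _ | ⟨e', w'⟩
  · simp [push] at h
  have ih := ho e' w' rfl
  simp only [push, forceNat_eq] at h
  unfold Holds at hc
  cases hg : Nat.beq l 8 with
  | true =>
    rw [if_pos (Nat.eq_of_beq_eq_true hg)] at hc
    simp only [hg, Option.some.injEq, Prod.mk.injEq] at h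
    obtain ⟨rfl, rfl⟩ := h
    rw [ih, hc]
  | false =>
    rw [if_neg (fun he => by simp [he] at hg)] at hc
    simp only [hg, Option.some.injEq, Prod.mk.injEq] at h
    obtain ⟨rfl, rfl⟩ := h
    rw [ih, ← hc, ev, mul_inv_rev, mul_smul]

theorem walk_succ (bound k off cur : Nat) :
    D.walk bound (k + 1) off cur =
      Bool.rec none
        (Bool.rec
          (Bool.rec none
            (push (Cert.back (fl (D.rec' (D.refs.get 18 off))))
              (D.walk bound k (Nat.succ off) (fa (D.rec' (D.refs.get 18 off)))))
            (Nat.beq (fb (D.rec' (D.refs.get 18 off))) cur &&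
              Nat.ble (fl (D.rec' (D.refs.get 18 off))) 8))
          (push (fl (D.rec' (D.refs.get 18 off)))
            (D.walk bound k (Nat.succ off) (fb (D.rec' (D.refs.get 18 off)))))
          (Nat.beq (fa (D.rec' (D.refs.get 18 off))) cur &&
            Nat.ble (fl (D.rec' (D.refs.get 18 off))) 8))
        (Nat.ble (Nat.succ (D.refs.get 18 off)) bound) := by
  delta walk
  simp only [forceNat_eq]

theorem walk_sound (hs : ∀ l, s (inv l) = (s l)⁻¹) {bound : Nat}
    (IH : ∀ j, j < bound → D.Holds s C (fa (D.rec' j)) (fl (D.rec' j)) (fb (D.rec' j))) :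
    ∀ (k off cur e : Nat) (w : List Nat), D.walk bound k off cur = some (e, w) →
      D.node s C e = (ev s w)⁻¹ • D.node s C cur := by
  intro k
  induction k with
  | zero =>
    intro off cur e w h
    obtain ⟨rfl, rfl⟩ : cur = e ∧ [] = w := by simpa [walk] using h
    simp [ev]
  | succ k ih =>
    intro off cur e w h
    rw [walk_succ] at h
    set r := D.refs.get 18 off with hr
    cases hb : Nat.ble (Nat.succ r) bound with
    | false => simp [hb] at h
    | true =>
      have hf := IH r (Nat.le_of_ble_eq_true hb)
      simp only [hb] at h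
      cases h1 : (Nat.beq (fa (D.rec' r)) cur && Nat.ble (fl (D.rec' r)) 8) with
      | true =>
        simp only [h1] at h
        rw [Bool.and_eq_true] at h1
        rw [Nat.eq_of_beq_eq_true h1.1] at hf
        exact D.push_sound s C hf (fun e' w' he => ih _ _ e' w' he) h
      | false =>
        simp only [h1] at h
        cases h2 : (Nat.beq (fb (D.rec' r)) cur && Nat.ble (fl (D.rec' r)) 8) with
        | true =>
          simp only [h2] at h
          rw [Bool.and_eq_true] at h2
          have hf' := Holds.back D s C hs (Nat.le_of_ble_eq_true h2.2) hf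
          rw [Nat.eq_of_beq_eq_true h2.1] at hf'
          exact D.push_sound s C hf' (fun e' w' he => ih _ _ e' w' he) h
        | false => simp [h2] at h

variable {D}

/-- All facts of a valid certificate hold. -/
theorem Valid.holds (hV : D.Valid) (hs : ∀ l, s (inv l) = (s l)⁻¹)
    (hrel : ∀ k, k < D.nrel → ev s (D.words.get k) = 1)
    (hsub : ∀ k, k < D.nsub → ev s (D.words.get k) ∈ C)
    (htriv : ∀ k, D.nsub ≤ k → k < D.nw → ev s (D.words.get k) = 1) :
    ∀ i, i < D.nf → D.Holds s C (fa (D.rec' i)) (fl (D.rec' i)) (fb (D.rec' i)) := by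
  intro i
  induction i using Nat.strong_induction_on with
  | _ i IH =>
    intro hi
    have IH' : ∀ j, j < i → D.Holds s C (fa (D.rec' j)) (fl (D.rec' j)) (fb (D.rec' j)) :=
      fun j hj => IH j hj (hj.trans hi)
    have hc := hV.facts_ok i hi
    simp only [checkFact, forceNat_eq] at hc
    set x := D.rec' i
    cases hw : Nat.beq (fw x) 63 with
    | true =>
      simp only [hw, Bool.and_eq_true] at hc
      obtain ⟨⟨⟨h1, h2⟩, h3⟩, h4⟩ := hc
      have e1 := Nat.eq_of_beq_eq_true h1
      have e2 := Nat.eq_of_beq_eq_true h2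
      have l1 : fa x < fb x := Nat.le_of_ble_eq_true h3
      have l2 : fl x < 8 := Nat.le_of_ble_eq_true h4
      unfold Holds
      rw [if_neg (Nat.ne_of_lt l2)]
      conv_rhs => rw [node]
      rw [dif_pos (by rw [e1]; exact l1), e1, e2]
    | false =>
      simp only [hw] at hc
      rcases ha : D.walk i (flu x) (foff x) (fz x) with _ | ⟨a, u⟩
      · simp [ha, checkScan] at hc
      rcases hb : D.walk i (flv x) (Nat.add (foff x) (flu x)) (fz x) with _ | ⟨b, v⟩
      · simp only [ha, hb, checkScan] at hc; exact absurd hc Bool.false_ne_true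
      simp only [ha, hb, checkScan, Bool.and_eq_true, Bool.or_eq_true] at hc
      obtain ⟨⟨⟨⟨⟨h1, h2⟩, -⟩, h4⟩, hnw⟩, h5⟩ := hc
      have qa := D.walk_sound s C hs IH' _ _ _ _ _ ha
      have qb := D.walk_sound s C hs IH' _ _ _ _ _ hb
      rw [Nat.eq_of_beq_eq_true h1] at qa
      rw [Nat.eq_of_beq_eq_true h2] at qb
      have hfix : (ev s (D.words.get (fw x)))⁻¹ • D.node s C (fz x) = D.node s C (fz x) := by
        rcases h4 with (h4 | h4) | h4
        · rw [hrel _ (Nat.le_of_ble_eq_true h4), inv_one, one_smul]
        · rw [Nat.eq_of_beq_eq_true h4, node_zero]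
          by_cases hk : fw x < D.nsub
          · rw [MulAction.Quotient.smul_coe, smul_eq_mul, mul_one, QuotientGroup.eq, inv_inv,
              mul_one]
            exact hsub _ hk
          · rw [htriv _ (Nat.le_of_not_lt hk) (Nat.le_of_ble_eq_true hnw), inv_one, one_smul]
        · rw [htriv _ (Nat.le_of_ble_eq_true h4) (Nat.le_of_ble_eq_true hnw), inv_one, one_smul]
      rw [natListEq_eq h5, cycleWord, ev_append] at hfix
      unfold Holds
      cases hg : Nat.beq (fl x) 8 with
      | true =>
        simp only [hg, ev_inv_reverse s hs, mul_inv_rev, inv_inv, mul_smul] at hfix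
        rw [if_pos (Nat.eq_of_beq_eq_true hg), qa, qb]
        calc (ev s u)⁻¹ • D.node s C (fz x)
            = (ev s v)⁻¹ • ev s v • (ev s u)⁻¹ • D.node s C (fz x) := (inv_smul_smul _ _).symm
          _ = (ev s v)⁻¹ • D.node s C (fz x) := by rw [hfix]
      | false =>
        simp only [hg, ev, ev_inv_reverse s hs, mul_inv_rev, inv_inv, mul_smul] at hfix
        rw [if_neg (fun he => by simp [he] at hg), qa, qb]
        calc (s (fl x))⁻¹ • (ev s u)⁻¹ • D.node s C (fz x)
            = (ev s v)⁻¹ • ev s v • (s (fl x))⁻¹ • (ev s u)⁻¹ • D.node s C (fz x) :=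
              (inv_smul_smul _ _).symm
          _ = (ev s v)⁻¹ • D.node s C (fz x) := by rw [hfix]

/-- The cosets of a valid certificate exhaust the cosets in the generated group. -/
theorem Valid.index_le (hV : D.Valid) (hgen : Subgroup.closure {x | ∃ l < 8, s l = x} = ⊤)
    (hs : ∀ l, s (inv l) = (s l)⁻¹)
    (hrel : ∀ k, k < D.nrel → ev s (D.words.get k) = 1)
    (hsub : ∀ k, k < D.nsub → ev s (D.words.get k) ∈ C)
    (htriv : ∀ k, D.nsub ≤ k → k < D.nw → ev s (D.words.get k) = 1) :
    C.index ≠ 0 ∧ C.index ≤ D.n := by
  have hH := hV.holds s C hs hrel hsub htriv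
  let f : Fin D.n → G ⧸ C := fun i => D.node s C (D.repNode i)
  have hstep : ∀ l, l < 8 → ∀ i, ∃ j, (s l)⁻¹ • f i = f j := by
    intro l hl i
    have hr := hV.rows_ok i i.2
    simp only [checkRow] at hr
    have h := allFrom_spec hr l (Nat.zero_le l) (by omega)
    simp only [forceNat_eq, Bool.and_eq_true, Bool.or_eq_true] at h
    obtain ⟨⟨hd, hf⟩, hends⟩ := h
    refine ⟨⟨_, Nat.le_of_ble_eq_true hd⟩, ?_⟩
    set e := D.table.get 36 (Nat.add (Nat.mul i 8) l)
    have hF := hH _ (Nat.le_of_ble_eq_true hf)
    rcases hends with ⟨⟨hl', ha⟩, hb⟩ | ⟨⟨hl', hb⟩, ha⟩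
    · rw [Nat.eq_of_beq_eq_true hl', Nat.eq_of_beq_eq_true ha, Nat.eq_of_beq_eq_true hb] at hF
      rwa [Holds, if_neg (Nat.ne_of_lt hl)] at hF
    · rw [Nat.eq_of_beq_eq_true hl', Nat.eq_of_beq_eq_true ha, Nat.eq_of_beq_eq_true hb,
        Holds, if_neg (inv_ne_eight hl.le), hs, inv_inv] at hF
      rw [inv_smul_eq_iff]
      exact hF.symm
  have hclosed : ∀ x : G, ∀ i, ∃ j, x • f i = f j := by
    intro x
    have hx : x ∈ Subgroup.closure {x | ∃ l < 8, s l = x} := hgen ▸ Subgroup.mem_top x
    induction hx using Subgroup.closure_induction'' with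
    | mem y hy =>
      obtain ⟨l, hl, rfl⟩ := hy
      intro i
      have hl' : inv l < 8 := by interval_cases l <;> decide
      obtain ⟨j, hj⟩ := hstep (inv l) hl' i
      rw [hs, inv_inv] at hj
      exact ⟨j, hj⟩
    | inv_mem y hy =>
      obtain ⟨l, hl, rfl⟩ := hy
      exact hstep l hl
    | one => exact fun i => ⟨i, one_smul _ _⟩
    | mul a b _ _ ha hb =>
      intro i
      obtain ⟨j, hj⟩ := hb i
      obtain ⟨k, hk⟩ := ha j
      exact ⟨k, by rw [mul_smul, hj, hk]⟩
  have hb := hV.base_ok
  rw [Bool.and_eq_true] at hb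
  have hpos : 0 < D.n := Nat.le_of_ble_eq_true hb.1
  have h0 : f ⟨0, hpos⟩ = ((1 : G) : G ⧸ C) := by
    show D.node s C (D.repNode 0) = _
    rw [Nat.eq_of_beq_eq_true hb.2, node_zero]
  have hsurj : Function.Surjective f := by
    intro c
    obtain ⟨x, rfl⟩ := QuotientGroup.mk_surjective c
    obtain ⟨j, hj⟩ := hclosed x ⟨0, hpos⟩
    rw [h0, MulAction.Quotient.smul_coe, smul_eq_mul, mul_one] at hj
    exact ⟨j, hj.symm⟩
  have := Finite.of_surjective f hsurj
  refine ⟨Subgroup.index_ne_zero_of_finite, ?_⟩
  simpa [Subgroup.index] using Nat.card_le_card_of_surjective f hsurj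

end Cert

end Cfsg.Agent.H68.J1
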