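import Cfsg.Agent.H30.TwoTimesA5Data
import Cfsg.Agent.H68.J1.Cert0
import Cfsg.Agent.H68.J1.Cert1
import Cfsg.Agent.H68.J1.Cert2
import Cfsg.Agent.H68.J1.Cert3

/-!
Generators and relations for a group with involution centralizer `C2 × A5`, built from the
centralizer and an element of order seven, and the four possible further relations.
-/

set_option autoImplicit false
set_option maxRecDepth 4000
set_option maxHeartbeats 1000000

namespace Cfsg.Agent.H68.J1

open Cfsg.Agent.H30.TwoTimesA5 (M A τ vA rA)
open Cfsg.Agent.H16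

/-- an involution of the second factor -/
def mX : M := (1, vA)

/-- an element of order three of the second factor -/
def mY : M := (1, ⟨Equiv.swap 1 2 * Equiv.swap 2 4, by rw [Equiv.Perm.mem_alternatingGroup]; decide⟩)

/-- letters below six -/
def letM (l : Nat) : M :=
  match l with
  | 0 => τ
  | 1 => τ
  | 2 => mX
  | 3 => mX
  | 4 => mY
  | 5 => mY⁻¹
  | _ => 1

/-- value of a word in the centralizer -/
def evM : List Nat → M
  | [] => 1
  | l :: w => letM l * evM w

/-- word of the second involution of the four group -/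
def wB : List Nat := [4, 2, 5, 2, 4, 2, 5, 2, 4]
/-- word of the element of order three normalising the four group -/
def wS : List Nat := [5, 2, 5, 2, 4, 2]
/-- word of an element of order five -/
def wF : List Nat := [4, 2, 5, 2]

/-- an element of the four group -/
def mB : M := evM wB
/-- an element of order three normalising the four group -/
def mS : M := evM wS
/-- an element of order five inverted by `mX` -/
def mF : M := evM wF

/-- the inverse word -/
def invW (w : List Nat) : List Nat := (w.map inv).reverse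

/-- The relators of the amalgam. -/
def baseRels : List (List Nat) :=
  [[0, 0], [2, 2], [4, 4, 4], [2, 4, 2, 4, 2, 4, 2, 4, 2, 4], [0, 2, 0, 2], [0, 4, 0, 5],
    [6, 6, 6, 6, 6, 6, 6],
    [6] ++ [0] ++ [7] ++ invW [2],
    [6] ++ [2] ++ [7] ++ invW wB,
    [6] ++ wB ++ [7] ++ invW [0, 2],
    wS ++ [6] ++ invW wS ++ [7, 7, 7, 7]]

/-- The relator saying that `wF` commutes with a conjugate of `w` by the `i`-th power. -/
def extraRel (i : Nat) (w : List Nat) : List Nat :=
  wF ++ (List.replicate i 6 ++ w ++ List.replicate i 7) ++ invW wF ++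
    invW (List.replicate i 6 ++ w ++ List.replicate i 7)

/-- The words used by the certificates. -/
def allWords (i : Nat) (w : List Nat) : List (List Nat) :=
  baseRels ++ [extraRel i w] ++ [[0], [2], [4]] ++ (List.range 8).map fun l => [l, inv l]

/-- A certificate for the group with one extra relation. -/
structure HasWords (D : Cert) (i : Nat) (w : List Nat) : Prop where
  valid : D.Valid
  nrel : D.nrel = 12
  nsub : D.nsub = 15
  nw : D.nw = 23
  words : ∀ k < 23, D.words.get k = (allWords i w).getD k []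

/-- first case -/
def w0 : List Nat := [5, 2, 4, 2, 5, 2]
/-- second case -/
def w1 : List Nat := [2, 5, 2, 4, 2, 5]
/-- third case -/
def w2 : List Nat := [4]
/-- fourth case -/
def w3 : List Nat := [2, 4, 2]

theorem hasWords0 : HasWords Cert0.cert 1 w0 :=
  ⟨Cert0.valid, rfl, rfl, rfl, fun k hk => natListEq_eq
    (allFrom_spec (p := fun k => natListEq (Cert0.cert.words.get k) ((allWords 1 w0).getD k []))
      (n := 23) (lo := 0) (by decide +kernel) k (Nat.zero_le k) (by omega))⟩

theorem hasWords1 : HasWords Cert1.cert 1 w1 :=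
  ⟨Cert1.valid, rfl, rfl, rfl, fun k hk => natListEq_eq
    (allFrom_spec (p := fun k => natListEq (Cert1.cert.words.get k) ((allWords 1 w1).getD k []))
      (n := 23) (lo := 0) (by decide +kernel) k (Nat.zero_le k) (by omega))⟩

theorem hasWords2 : HasWords Cert2.cert 3 w2 :=
  ⟨Cert2.valid, rfl, rfl, rfl, fun k hk => natListEq_eq
    (allFrom_spec (p := fun k => natListEq (Cert2.cert.words.get k) ((allWords 3 w2).getD k []))
      (n := 23) (lo := 0) (by decide +kernel) k (Nat.zero_le k) (by omega))⟩

theorem hasWords3 : HasWords Cert3.cert 3 w3 :=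
  ⟨Cert3.valid, rfl, rfl, rfl, fun k hk => natListEq_eq
    (allFrom_spec (p := fun k => natListEq (Cert3.cert.words.get k) ((allWords 3 w3).getD k []))
      (n := 23) (lo := 0) (by decide +kernel) k (Nat.zero_le k) (by omega))⟩

/-- An image of `C2 × A5` with an element of order seven normalising its Sylow subgroup. -/
structure PreGens (G : Type*) [Group G] where
  ι : M →* G
  inj : Function.Injective ι
  g : G
  g7 : g ^ 7 = 1
  g_t : g * ι τ * g⁻¹ = ι mX
  g_a : g * ι mX * g⁻¹ = ι mB
  g_b : g * ι mB * g⁻¹ = ι (τ * mX)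
  g_s : ι mS * g * (ι mS)⁻¹ = g ^ 4

/-- The centralizer of an involution with an element of order seven normalising its Sylow
subgroup. -/
structure Gens (G : Type*) [Group G] extends PreGens G where
  range_eq : ι.range = Subgroup.centralizer ({ι τ} : Set G)

namespace PreGens

variable {G : Type*} [Group G] (d : PreGens G)

/-- letters -/
def gen (l : Nat) : G :=
  match l with
  | 6 => d.g
  | 7 => d.g⁻¹
  | _ => d.ι (letM l)

theorem gen_inv (l : Nat) : d.gen (inv l) = (d.gen l)⁻¹ := by
  by_cases hl : l < 8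
  · interval_cases l <;>
      simp only [inv, gen, letM, show Nat.xor 0 1 = 1 from rfl, show Nat.xor 1 1 = 0 from rfl,
        show Nat.xor 2 1 = 3 from rfl, show Nat.xor 3 1 = 2 from rfl,
        show Nat.xor 4 1 = 5 from rfl, show Nat.xor 5 1 = 4 from rfl,
        show Nat.xor 6 1 = 7 from rfl, show Nat.xor 7 1 = 6 from rfl, inv_inv] <;>
      rw [← map_inv] <;> exact congrArg d.ι (by decide +kernel)
  · have h1 : ∀ k, 8 ≤ k → d.gen k = 1 := by
      intro k hk
      obtain ⟨j, rfl⟩ := Nat.exists_eq_add_of_le hk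
      simp [gen, letM, Nat.add_comm 8 j]
    have h2 : 8 ≤ inv l := by
      unfold inv
      have : Nat.xor l 1 = l ^^^ 1 := rfl
      rw [this]
      by_contra hc
      have h3 : (l ^^^ 1) ^^^ 1 < 2 ^ 3 := Nat.xor_lt_two_pow (by omega) (by norm_num)
      rw [Nat.xor_assoc, Nat.xor_self, Nat.xor_zero] at h3
      omega
    rw [h1 _ h2, h1 _ (by omega), inv_one]

theorem ev_small : ∀ (w : List Nat), (w.all fun l => decide (l < 6)) = true →
    Cert.ev d.gen w = d.ι (evM w)
  | [], _ => by simp [Cert.ev, evM]
  | l :: w, h => by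
    rw [List.all_cons, Bool.and_eq_true, decide_eq_true_eq] at h
    rw [Cert.ev, evM, map_mul, ev_small w h.2]
    congr 1
    have := h.1
    interval_cases l <;> rfl

theorem ev_invW (w : List Nat) : Cert.ev d.gen (invW w) = (Cert.ev d.gen w)⁻¹ :=
  Cert.ev_inv_reverse d.gen d.gen_inv w

theorem ev_six : ∀ i, Cert.ev d.gen (List.replicate i 6) = d.g ^ i
  | 0 => by simp [Cert.ev]
  | i + 1 => by simp [List.replicate_succ, Cert.ev, ev_six i, pow_succ', gen]

theorem ev_seven : ∀ i, Cert.ev d.gen (List.replicate i 7) = (d.g ^ i)⁻¹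
  | 0 => by simp [Cert.ev]
  | i + 1 => by
    simp only [List.replicate_succ, Cert.ev, ev_seven i]
    rw [pow_succ d.g i, mul_inv_rev]
    rfl

theorem ev_conj_rel {u v : List Nat} {m m' : M} (hu : Cert.ev d.gen u = d.ι m)
    (hv : Cert.ev d.gen v = d.ι m') (h : d.g * d.ι m * d.g⁻¹ = d.ι m') :
    Cert.ev d.gen ([6] ++ u ++ [7] ++ invW v) = 1 := by
  rw [Cert.ev_append, Cert.ev_append, Cert.ev_append, ev_invW, hu, hv]
  simp only [Cert.ev, gen, mul_one]
  rw [h, mul_inv_cancel]

theorem ev_base : ∀ k < 11, Cert.ev d.gen (baseRels.getD k []) = 1 := by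
  intro k hk
  have small : ∀ w : List Nat, (w.all fun l => decide (l < 6)) = true → evM w = 1 →
      Cert.ev d.gen w = 1 := fun w hw hw1 => by rw [d.ev_small w hw, hw1, map_one]
  interval_cases k
  all_goals (try exact small _ (by decide) (by decide +kernel))
  · show Cert.ev d.gen (List.replicate 7 6) = 1
    rw [ev_six, d.g7]
  · exact d.ev_conj_rel (d.ev_small [0] (by decide)) (d.ev_small [2] (by decide))
      (by simpa [evM, letM] using d.g_t)
  · exact d.ev_conj_rel (d.ev_small [2] (by decide)) (d.ev_small wB (by decide))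
      (by simpa [evM, letM, mB] using d.g_a)
  · exact d.ev_conj_rel (d.ev_small wB (by decide)) (d.ev_small [0, 2] (by decide))
      (by simpa [evM, letM, mB] using d.g_b)
  · show Cert.ev d.gen (wS ++ [6] ++ invW wS ++ List.replicate 4 7) = 1
    rw [Cert.ev_append, Cert.ev_append, Cert.ev_append, ev_invW, ev_seven,
      d.ev_small wS (by decide)]
    simp only [Cert.ev, gen, mul_one]
    rw [show evM wS = mS from rfl, d.g_s, mul_inv_cancel]

theorem ev_extra {i : Nat} {w : List Nat} (hw : (w.all fun l => decide (l < 6)) = true)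
    (h : Commute (d.ι mF) (d.g ^ i * d.ι (evM w) * (d.g ^ i)⁻¹)) :
    Cert.ev d.gen (extraRel i w) = 1 := by
  rw [extraRel, Cert.ev_append, Cert.ev_append, Cert.ev_append, ev_invW, ev_invW, Cert.ev_append,
    Cert.ev_append, ev_six, ev_seven, d.ev_small w hw, d.ev_small wF (by decide),
    show evM wF = mF from rfl, h.eq, mul_inv_cancel_right, mul_inv_cancel]

/-- Words of a certificate evaluate correctly. -/
theorem ev_words {D : Cert} {i : Nat} {w : List Nat} (hD : HasWords D i w)
    (hw : (w.all fun l => decide (l < 6)) = true)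
    (h : Commute (d.ι mF) (d.g ^ i * d.ι (evM w) * (d.g ^ i)⁻¹)) :
    (∀ k, k < D.nrel → Cert.ev d.gen (D.words.get k) = 1) ∧
    (∀ k, k < D.nsub → Cert.ev d.gen (D.words.get k) ∈ d.ι.range) ∧
    (∀ k, D.nsub ≤ k → k < D.nw → Cert.ev d.gen (D.words.get k) = 1) := by
  have hrel : ∀ k, k < 12 → Cert.ev d.gen ((allWords i w).getD k []) = 1 := by
    intro k hk
    by_cases h11 : k < 11
    · have e : (allWords i w).getD k [] = baseRels.getD k [] := by interval_cases k <;> rfl
      rw [e]; exact d.ev_base k h11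
    · obtain rfl : k = 11 := by omega
      exact d.ev_extra hw h
  refine ⟨fun k hk => ?_, fun k hk => ?_, fun k hk hk' => ?_⟩
  · rw [hD.nrel] at hk
    rw [hD.words k (by omega)]; exact hrel k hk
  · rw [hD.nsub] at hk
    rw [hD.words k (by omega)]
    by_cases h12 : k < 12
    · rw [hrel k h12]; exact one_mem _
    · interval_cases k
      · exact ⟨_, (d.ev_small [0] (by decide)).symm⟩
      · exact ⟨_, (d.ev_small [2] (by decide)).symm⟩
      · exact ⟨_, (d.ev_small [4] (by decide)).symm⟩
  · rw [hD.nsub] at hk; rw [hD.nw] at hk'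
    rw [hD.words k hk']
    have hl : ∀ l, Cert.ev d.gen [l, inv l] = 1 := fun l => by
      simp [Cert.ev, d.gen_inv]
    interval_cases k <;> exact hl _

/-- The subgroup generated. -/
def K : Subgroup G := Subgroup.closure {x | ∃ l < 8, d.gen l = x}

theorem gen_mem (l : Nat) : d.gen l ∈ d.K := by
  by_cases hl : l < 8
  · exact Subgroup.subset_closure ⟨l, hl, rfl⟩
  · obtain ⟨j, rfl⟩ := Nat.exists_eq_add_of_le (Nat.le_of_not_lt hl)
    simp [gen, letM, Nat.add_comm 8 j, one_mem]

/-- The index of the centralizer in the subgroup generated. -/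
theorem index_le {D : Cert} {i : Nat} {w : List Nat} (hD : HasWords D i w)
    (hw : (w.all fun l => decide (l < 6)) = true)
    (h : Commute (d.ι mF) (d.g ^ i * d.ι (evM w) * (d.g ^ i)⁻¹)) :
    (d.ι.range.subgroupOf d.K).index ≠ 0 ∧ (d.ι.range.subgroupOf d.K).index ≤ D.n := by
  let s : Nat → d.K := fun l => ⟨d.gen l, d.gen_mem l⟩
  have hev : ∀ u, ((Cert.ev s u : d.K) : G) = Cert.ev d.gen u := by
    intro u
    induction u with
    | nil => rfl
    | cons a u ih => simp [Cert.ev, ih, s]
  obtain ⟨h1, h2, h3⟩ := d.ev_words hD hw h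
  refine hD.valid.index_le s (d.ι.range.subgroupOf d.K) ?_ (fun l => Subtype.ext (d.gen_inv l))
    (fun k hk => Subtype.ext ((hev _).trans (h1 k hk)))
    (fun k hk => by
      show ((Cert.ev s (D.words.get k) : d.K) : G) ∈ d.ι.range
      rw [hev]; exact h2 k hk)
    (fun k hk hk' => Subtype.ext ((hev _).trans (h3 k hk hk')))
  refine (congrArg Subgroup.closure ?_).trans
    (Subgroup.closure_closure_coe_preimage (k := {x | ∃ l < 8, d.gen l = x}))
  ext x
  constructor
  · rintro ⟨l, hl, rfl⟩; exact ⟨l, hl, rfl⟩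
  · rintro ⟨l, hl, e⟩; exact ⟨l, hl, Subtype.ext e⟩

end PreGens

namespace Gens

variable {G : Type*} [Group G] (d : Gens G)

theorem g_not_mem : d.g ∉ d.ι.range := by
  intro hg
  have ht : d.g * d.ι τ * d.g⁻¹ = d.ι τ := by
    rw [d.range_eq, Subgroup.mem_centralizer_singleton_iff] at hg
    rw [hg, mul_inv_cancel_right]
  rw [d.g_t] at ht
  exact absurd (d.inj ht) (by decide +kernel)

theorem no_collapse {D : Cert} {i : Nat} {w : List Nat} (hD : HasWords D i w) (hn : D.n = 1)
    (hw : (w.all fun l => decide (l < 6)) = true)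
    (h : Commute (d.ι mF) (d.g ^ i * d.ι (evM w) * (d.g ^ i)⁻¹)) : False := by
  obtain ⟨h0, h1⟩ := d.toPreGens.index_le hD hw h
  have h2 : (d.ι.range.subgroupOf d.K).index = 1 := by omega
  rw [Subgroup.index_eq_one, Subgroup.subgroupOf_eq_top] at h2
  exact d.g_not_mem (h2 (d.toPreGens.gen_mem 6))

end Gens

end Cfsg.Agent.H68.J1
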