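import Cfsg.Agent.H30.TwoTimesA5Local
import Cfsg.Agent.H68.J1.Gens

/-!
An element of order seven normalising a Sylow 2-subgroup of a group with involution centralizer
`C2 × A5`, with prescribed action.
-/

set_option autoImplicit false
set_option maxRecDepth 4000
set_option maxHeartbeats 1000000
set_option synthInstance.maxSize 4096

namespace Cfsg.Agent.H68.J1

open Cfsg.Agent.H30.TwoTimesA5 (M A τ vA rA Setting orbitBy card_orbitBy orbitBy_normalizer)

/-- The automorphism of `M` by a transposition. -/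
def flipM : M →* M where
  toFun m := (m.1, ⟨Equiv.swap 0 1 * m.2.1 * (Equiv.swap 0 1)⁻¹, by
    rw [Equiv.Perm.mem_alternatingGroup, map_mul, map_mul, map_inv, mul_comm, ← mul_assoc,
      inv_mul_cancel, one_mul]
    exact Equiv.Perm.mem_alternatingGroup.mp m.2.2⟩)
  map_one' := by decide +kernel
  map_mul' x y := by
    refine Prod.ext rfl (Subtype.ext ?_)
    show _ = _ * _
    simp [mul_assoc]

theorem flipM_values : flipM τ = τ ∧ flipM mX = mX ∧ flipM mB = mX * mB ∧ flipM mS = mS⁻¹ := by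
  decide +kernel

theorem flipM_invol : ∀ m : M, flipM (flipM m) = m := by decide +kernel

/-- the Sylow subgroup of `M` normalised by `mS` -/
def V8 : Subgroup M := Subgroup.centralizer {mX, mB}

theorem mem_V8 {m : M} : m ∈ V8 ↔ mX * m = m * mX ∧ mB * m = m * mB := by
  simp [V8, Subgroup.mem_centralizer_iff]

/-- coordinates on the Sylow subgroup -/
def emb (x : Fin 8) : M :=
  (if x.1.testBit 0 then τ else 1) * (if x.1.testBit 1 then mX else 1) *
    (if x.1.testBit 2 then mB else 1)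

/-- addition of coordinates -/
def xadd (x y : Fin 8) : Fin 8 := ⟨(x.1 ^^^ y.1) % 8, Nat.mod_lt _ (by decide)⟩

theorem emb_xadd : ∀ x y : Fin 8, emb (xadd x y) = emb x * emb y := by decide +kernel

theorem emb_inj : Function.Injective emb := by decide +kernel

theorem emb_mem : ∀ x : Fin 8, mX * emb x = emb x * mX ∧ mB * emb x = emb x * mB := by
  decide +kernel

theorem exists_emb : ∀ m : M, mX * m = m * mX → mB * m = m * mB → ∃ x, emb x = m := by
  decide +kernel

theorem emb_values : emb 0 = 1 ∧ emb 1 = τ ∧ emb 2 = mX ∧ emb 3 = τ * mX ∧ emb 4 = mB ∧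
    emb 5 = τ * mB ∧ emb 6 = mX * mB := by decide +kernel

/-- action of `mS` on coordinates -/
def sp : Fin 8 → Fin 8 := ![0, 1, 6, 7, 2, 3, 4, 5]

theorem sp_spec : ∀ x : Fin 8, mS * emb x * mS⁻¹ = emb (sp x) := by decide +kernel

/-- linear map with given values on the basis -/
def lmap (a b c : Fin 8) (x : Fin 8) : Fin 8 :=
  xadd (xadd (if x.1.testBit 0 then a else 0) (if x.1.testBit 1 then b else 0))
    (if x.1.testBit 2 then c else 0)

theorem lmap_facts : ∀ a b c : Fin 8, a ≠ 1 → (∀ x, (lmap a b c)^[7] x = x) →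
    ∃ j : Fin 7, (lmap a b c)^[j.1] 1 = 2 := by decide +kernel

theorem lmap_shape : ∀ b c : Fin 8, ∀ k : Fin 7, (∀ x, (lmap 2 b c)^[7] x = x) →
    (∀ x, sp (lmap 2 b c x) = (lmap 2 b c)^[k.1] (sp x)) →
    (k.1 = 4 ∧ b = 4 ∧ c = 3) ∨ (k.1 = 2 ∧ b = 6 ∧ c = 5) := by decide +kernel

theorem card_V8 : Nat.card V8 = 8 := by
  have e : Fin 8 ≃ V8 := Equiv.ofBijective (fun x => ⟨emb x, mem_V8.mpr (emb_mem x)⟩)
    ⟨fun x y h => emb_inj (congrArg Subtype.val h), fun ⟨m, hm⟩ => by
      obtain ⟨x, hx⟩ := exists_emb m (mem_V8.mp hm).1 (mem_V8.mp hm).2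
      exact ⟨x, Subtype.ext hx⟩⟩
  rw [← Nat.card_congr e, Nat.card_fin]

theorem card_normalizer_V8 :
    (Finset.univ.filter fun m : M => ∀ x : Fin 8, mX * (m * emb x * m⁻¹) = (m * emb x * m⁻¹) * mX ∧
      mB * (m * emb x * m⁻¹) = (m * emb x * m⁻¹) * mB).card = 24 := by decide +kernel

theorem mS_facts : mS ^ 3 = 1 ∧ mS ≠ 1 ∧ emb 6 * emb 5 = τ * mX := by decide +kernel

variable {G : Type*} [Group G]

theorem conj_emb (ι : M →* G) (n : G) {a b c : Fin 8} (ha : n * ι τ * n⁻¹ = ι (emb a))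
    (hb : n * ι mX * n⁻¹ = ι (emb b)) (hc : n * ι mB * n⁻¹ = ι (emb c)) (x : Fin 8) :
    n * ι (emb x) * n⁻¹ = ι (emb (lmap a b c x)) := by
  have h1 : ∀ (p : Prop) [Decidable p] (m : M) (y : Fin 8), n * ι m * n⁻¹ = ι (emb y) →
      n * ι (if p then m else 1) * n⁻¹ = ι (emb (if p then y else 0)) := by
    intro p _ m y h
    split_ifs
    · exact h
    · rw [emb_values.1, map_one, mul_one, mul_inv_cancel]
  rw [lmap, emb_xadd, emb_xadd, map_mul, map_mul, ← h1 _ _ _ ha, ← h1 _ _ _ hb, ← h1 _ _ _ hc]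
  simp only [emb, map_mul]
  group

theorem conj_iter {n : G} {f : M → G} {L : Fin 8 → Fin 8}
    (h : ∀ x, n * f (emb x) * n⁻¹ = f (emb (L x))) (k : ℕ) (x : Fin 8) :
    n ^ k * f (emb x) * (n ^ k)⁻¹ = f (emb (L^[k] x)) := by
  induction k with
  | zero => simp
  | succ k ih =>
    rw [pow_succ', mul_inv_rev, Function.iterate_succ_apply', ← h, ← ih]
    simp [mul_assoc]

variable [Finite G]

theorem mem_normalizer_of_conj {H : Subgroup G} {n : G} (h : ∀ q ∈ H, n * q * n⁻¹ ∈ H) :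
    n ∈ Subgroup.normalizer (H : Set G) := by
  have he : H.map (MulAut.conj n).toMonoidHom = H :=
    Subgroup.eq_of_le_of_card_ge (by rintro _ ⟨q, hq, rfl⟩; exact h q hq)
      (le_of_eq (Subgroup.card_map_of_injective (MulAut.conj n).injective).symm)
  refine Subgroup.mem_normalizer_iff.mpr fun q => ⟨h q, fun hq => ?_⟩
  rw [← he] at hq
  obtain ⟨r, hr, e⟩ := hq
  exact mul_left_cancel (mul_right_cancel (e : n * r * n⁻¹ = n * q * n⁻¹)) ▸ hr

/-- The embedding of `M` given by the centralizer. -/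
noncomputable def iotaOf (S : Setting G) : M →* G :=
  (Subgroup.subtype S.H).comp S.e.symm.toMonoidHom

theorem iotaOf_range (S : Setting G) : (iotaOf S).range = S.H := by
  ext x
  constructor
  · rintro ⟨m, rfl⟩; exact (S.e.symm m).2
  · intro hx; exact ⟨S.e ⟨x, hx⟩, by simp [iotaOf]⟩

theorem iotaOf_inj (S : Setting G) : Function.Injective (iotaOf S) :=
  fun _ _ h => S.e.symm.injective (Subtype.ext h)

theorem iotaOf_tau (S : Setting G) : iotaOf S τ = S.t := by
  rw [← S.map_t]; simp [iotaOf, Setting.t']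

/-- An element of order seven with the prescribed action exists. -/
theorem exists_gens [IsSimpleGroup G] (S : Setting G) (hG : Nat.card G = 175560) : Nonempty (Gens G) := by
  classical
  have : Fact (Nat.Prime 2) := ⟨Nat.prime_two⟩
  have : Fact (Nat.Prime 3) := ⟨Nat.prime_three⟩
  have : Fact (Nat.Prime 7) := ⟨by norm_num⟩
  set ι := iotaOf S with hι
  have hinj := iotaOf_inj S
  have hrange : ι.range = Subgroup.centralizer ({ι τ} : Set G) := by
    rw [iotaOf_range, iotaOf_tau]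
  -- the Sylow subgroup
  have hV : Nat.card (V8.map ι) = 8 := by
    rw [Subgroup.card_map_of_injective hinj, card_V8]
  obtain ⟨Q, hQ⟩ := (IsPGroup.of_card (p := 2) (n := 3) (G := V8.map ι) (by rw [hV]; norm_num)).exists_le_sylow
  have hQ8 : Nat.card (Q : Subgroup G) = 8 := by
    refine le_antisymm ?_ (hV ▸ Subgroup.card_le_of_le hQ)
    obtain ⟨k, hk⟩ := IsPGroup.iff_card.mp Q.isPGroup'
    have h := Subgroup.card_subgroup_dvd_card (Q : Subgroup G)
    rw [hk, hG] at h
    have : k ≤ 3 := by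
      by_contra hc
      exact absurd ((pow_dvd_pow 2 (by omega : 4 ≤ k)).trans h) (by norm_num)
    rw [hk]
    exact Nat.pow_le_pow_right (by norm_num) this
  have hQeq : (Q : Subgroup G) = V8.map ι :=
    (Subgroup.eq_of_le_of_card_ge hQ (by rw [hQ8, hV])).symm
  have hmemQ : ∀ q, q ∈ (Q : Subgroup G) ↔ ∃ x, ι (emb x) = q := by
    intro q
    rw [hQeq, Subgroup.mem_map]
    constructor
    · rintro ⟨m, hm, rfl⟩
      obtain ⟨x, rfl⟩ := exists_emb m (mem_V8.mp hm).1 (mem_V8.mp hm).2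
      exact ⟨x, rfl⟩
    · rintro ⟨x, rfl⟩; exact ⟨emb x, mem_V8.mpr (emb_mem x), rfl⟩
  have hmemC : ∀ m, ι m ∈ Subgroup.centralizer ({ι τ} : Set G) := fun m => hrange ▸ ⟨m, rfl⟩
  have htQ : ι τ ∈ (Q : Subgroup G) := (hmemQ _).mpr ⟨1, by rw [emb_values.2.1]⟩
  let S' : Setting G :=
    { t := S.t
      e := S.e
      P := Q
      ht := S.ht
      htP := iotaOf_tau S ▸ htQ
      hPt := fun q hq => by
        obtain ⟨x, rfl⟩ := (hmemQ q).mp hq
        rw [← iotaOf_tau S]
        exact Subgroup.mem_centralizer_singleton_iff.mp (hmemC _) }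
  set N := Subgroup.normalizer ((Q : Subgroup G) : Set G) with hN
  have hcomm : ∀ a ∈ (Q : Subgroup G), ∀ b ∈ (Q : Subgroup G), a * b = b * a := S'.comm_P
  have horb : orbitBy N (ι τ) = ((Q : Subgroup G) : Set G) \ {1} := by
    rw [orbitBy_normalizer Q hcomm htQ]
    ext x
    constructor
    · rintro ⟨hx, hxc⟩
      exact ⟨hx, fun h1 => S.t_ne (iotaOf_tau S ▸ isConj_one_left.mp
        (show IsConj (ι τ) 1 from Set.mem_singleton_iff.mp h1 ▸ hxc))⟩
    · rintro ⟨hx, hx1⟩
      exact ⟨hx, iotaOf_tau S ▸ S'.fusion (S'.orderOf_mem_P hx hx1)⟩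
  -- the order of the normalizer
  have hN168 : Nat.card N = 168 := by
    have h := card_orbitBy N (x := ι τ) (Subgroup.le_normalizer htQ)
    rw [horb, Nat.card_coe_set_eq, Set.ncard_sdiff_singleton_of_mem (one_mem (Q : Subgroup G)),
      ← Nat.card_coe_set_eq, SetLike.coe_sort_coe, hQ8] at h
    have h24 : Nat.card ↥(N ⊓ Subgroup.centralizer {ι τ}) = 24 := by
      rw [← card_normalizer_V8]
      rw [← Fintype.card_subtype, ← Nat.card_eq_fintype_card]
      symm
      refine Nat.card_congr (Equiv.ofBijective (fun m => ⟨ι m.1, ?_, hmemC _⟩) ⟨?_, ?_⟩)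
      · refine mem_normalizer_of_conj fun q hq => ?_
        obtain ⟨x, rfl⟩ := (hmemQ _).mp hq
        obtain ⟨y, hy⟩ := exists_emb _ (m.2 x).1 (m.2 x).2
        refine (hmemQ _).mpr ⟨y, ?_⟩
        rw [hy, map_mul, map_mul, map_inv]
      · intro a b h
        have h' : ι a.1 = ι b.1 :=
          congrArg (fun q : ↥(N ⊓ Subgroup.centralizer {ι τ}) => (q : G)) h
        exact Subtype.ext (hinj h')
      · rintro ⟨n, hn, hn'⟩
        have hn'' : n ∈ ι.range := hrange ▸ hn'
        obtain ⟨m, rfl⟩ := hn''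
        refine ⟨⟨m, fun x => ?_⟩, rfl⟩
        have h1 := (Subgroup.mem_normalizer_iff.mp hn _).mp ((hmemQ _).mpr ⟨x, rfl⟩)
        obtain ⟨y, hy⟩ := (hmemQ _).mp h1
        rw [← map_inv, ← map_mul, ← map_mul] at hy
        rw [← hinj hy]
        exact emb_mem y
    rw [h24] at h
    omega
  -- an element of order seven normalised by `mS`
  have hnot : ∀ n : G, orderOf n = 7 → n * ι τ ≠ ι τ * n := by
    intro n hn hc
    have h := Subgroup.orderOf_dvd_natCard (Subgroup.centralizer ({ι τ} : Set G))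
      (Subgroup.mem_centralizer_singleton_iff.mpr hc)
    rw [hn, iotaOf_tau S, show Subgroup.centralizer ({S.t} : Set G) = S.H from rfl, S.card_H] at h
    norm_num at h
  obtain ⟨T7⟩ := (inferInstance : Nonempty (Sylow 7 N))
  have hT7 : Nat.card (T7 : Subgroup N) = 7 := by
    rw [Sylow.card_eq_multiplicity, hN168,
      show (168 : ℕ) = 7 ^ 1 * 24 by norm_num,
      Nat.factorization_mul_of_coprime (by norm_num : Nat.Coprime (7 ^ 1) 24), Finsupp.add_apply,
      Nat.Prime.factorization_pow (by norm_num : Nat.Prime 7), Finsupp.single_eq_same,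
      Nat.factorization_eq_zero_of_not_dvd (by norm_num : ¬ 7 ∣ 24)]
    norm_num
  have hidx : (T7 : Subgroup N).index = 24 := by
    have := (T7 : Subgroup N).card_mul_index
    rw [hT7, hN168] at this; omega
  have hn7 : Nat.card (Sylow 7 N) = 8 := by
    have h1 : Nat.card (Sylow 7 N) ∣ 24 := hidx ▸ T7.card_dvd_index
    have h2 := card_sylow_modEq_one 7 N
    have h3 : Nat.card (Sylow 7 N) = 1 ∨ Nat.card (Sylow 7 N) = 8 := by
      have := Nat.le_of_dvd (by norm_num) h1
      unfold Nat.ModEq at h2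
      interval_cases (Nat.card (Sylow 7 N)) <;> first | omega | norm_num at h1
    refine h3.resolve_left fun h => ?_
    have : Subsingleton (Sylow 7 N) := (Nat.card_eq_one_iff_unique.mp h).1
    have hTn : (T7 : Subgroup N).Normal := Sylow.normal_of_subsingleton T7
    have hQn : ((Q : Subgroup G).subgroupOf N).Normal :=
      (Subgroup.normal_subgroupOf_iff_le_normalizer Subgroup.le_normalizer).mpr le_rfl
    have hdis : Disjoint (T7 : Subgroup N) ((Q : Subgroup G).subgroupOf N) := by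
      refine Subgroup.disjoint_of_coprime_natCard ?_
      rw [hT7, Nat.card_congr (Subgroup.subgroupOfEquivOfLe Subgroup.le_normalizer).toEquiv, hQ8]
      norm_num
    obtain ⟨n, hn⟩ := exists_prime_orderOf_dvd_card' (G := (T7 : Subgroup N)) 7 (by rw [hT7])
    have hc := Subgroup.commute_of_normal_of_disjoint _ _ hTn hQn hdis n.1 ⟨ι τ, Subgroup.le_normalizer htQ⟩
      n.2 htQ
    refine hnot ((n : N) : G) ?_ (congrArg Subtype.val hc.eq)
    rw [Subgroup.orderOf_coe, Subgroup.orderOf_coe, hn]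
  have hNT : Nat.card ↥(Subgroup.normalizer ((T7 : Subgroup N) : Set N)) = 21 := by
    have h1 : (Subgroup.normalizer ((T7 : Subgroup N) : Set N)).index = 8 :=
      T7.card_eq_index_normalizer.symm.trans hn7
    have h2 := (Subgroup.normalizer ((T7 : Subgroup N) : Set N)).card_mul_index
    rw [h1, hN168] at h2
    omega
  obtain ⟨u, hu⟩ := exists_prime_orderOf_dvd_card'
    (G := Subgroup.normalizer ((T7 : Subgroup N) : Set N)) 3 (by rw [hNT]; norm_num)
  have hsQ : ι mS ∈ N := by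
    refine mem_normalizer_of_conj fun q hq => ?_
    obtain ⟨x, rfl⟩ := (hmemQ _).mp hq
    exact (hmemQ _).mpr ⟨sp x, by rw [← sp_spec, map_mul, map_mul, map_inv]⟩
  have hs3 : orderOf (⟨ι mS, hsQ⟩ : N) = 3 := by
    refine orderOf_eq_prime (Subtype.ext ?_) fun h => ?_
    · show ι mS ^ 3 = 1
      rw [← map_pow, mS_facts.1, map_one]
    · exact mS_facts.2.1 (hinj ((congrArg Subtype.val h).trans (map_one ι).symm))
  have h3card : 3 ^ (Nat.card N).factorization 3 = 3 := by
    rw [hN168, show (168 : ℕ) = 3 ^ 1 * 56 by norm_num,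
      Nat.factorization_mul_of_coprime (by norm_num : Nat.Coprime (3 ^ 1) 56), Finsupp.add_apply,
      Nat.Prime.factorization_pow (by norm_num : Nat.Prime 3), Finsupp.single_eq_same,
      Nat.factorization_eq_zero_of_not_dvd (by norm_num : ¬ 3 ∣ 56)]
    norm_num
  let R1 : Sylow 3 N := Sylow.ofCard (Subgroup.zpowers ⟨ι mS, hsQ⟩)
    (by rw [Nat.card_zpowers, hs3, h3card])
  let R2 : Sylow 3 N := Sylow.ofCard (Subgroup.zpowers (u : N))
    (by rw [Nat.card_zpowers, Subgroup.orderOf_coe, hu, h3card])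
  obtain ⟨z, hz⟩ := MulAction.exists_smul_eq N R2 R1
  obtain ⟨v, hv⟩ := exists_prime_orderOf_dvd_card' (G := (T7 : Subgroup N)) 7 (by rw [hT7])
  have hvgen : Subgroup.zpowers (v : N) = (T7 : Subgroup N) :=
    Subgroup.eq_of_le_of_card_ge (Subgroup.zpowers_le.mpr v.2)
      (by rw [Nat.card_zpowers, Subgroup.orderOf_coe, hv, hT7])
  -- `mS` normalises the conjugate
  obtain ⟨k0, hk0⟩ : ∃ k : ℤ, (⟨ι mS, hsQ⟩ : N) * (z * v * z⁻¹) * (⟨ι mS, hsQ⟩ : N)⁻¹ =
      (z * v * z⁻¹) ^ k := by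
    have hmem : (⟨ι mS, hsQ⟩ : N) ∈ (R1 : Subgroup N) := Subgroup.mem_zpowers _
    rw [← hz, Sylow.coe_subgroup_smul, Subgroup.mem_pointwise_smul_iff_inv_smul_mem] at hmem
    obtain ⟨e, he⟩ := hmem
    have hnorm : (u : N) ^ e ∈ Subgroup.normalizer ((T7 : Subgroup N) : Set N) := zpow_mem u.2 e
    have h1 := (Subgroup.mem_normalizer_iff.mp hnorm _).mp (hvgen ▸ Subgroup.mem_zpowers (v : N))
    obtain ⟨k, hk⟩ := (SetLike.ext_iff.mp hvgen _).mpr h1
    refine ⟨k, ?_⟩
    simp only at he hk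
    simp only [MulAut.smul_def, MulAut.conj_inv_apply] at he
    rw [he] at hk
    rw [conj_zpow, hk]
    group
  set n : G := ((z * v * z⁻¹ : N) : G) with hn
  have hn7' : orderOf n = 7 := by
    rw [hn, Subgroup.orderOf_coe, show z * v * z⁻¹ = MulAut.conj z (v : N) from rfl,
      MulEquiv.orderOf_eq, Subgroup.orderOf_coe, hv]
  have hnpow : n ^ 7 = 1 := hn7' ▸ pow_orderOf_eq_one n
  have hnQ : ∀ x, ∃ y, n * ι (emb x) * n⁻¹ = ι (emb y) := fun x => by
    obtain ⟨y, hy⟩ := (hmemQ _).mp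
      ((Subgroup.mem_normalizer_iff.mp (z * v * z⁻¹ : N).2 _).mp ((hmemQ _).mpr ⟨x, rfl⟩))
    exact ⟨y, hy.symm⟩
  have hsn : ι mS * n * (ι mS)⁻¹ = n ^ k0 := by
    simpa [hn] using congrArg Subtype.val hk0
  -- a power moving `τ` to `mX`
  obtain ⟨a, ha⟩ := hnQ 1
  obtain ⟨b, hb⟩ := hnQ 2
  obtain ⟨c, hc⟩ := hnQ 4
  rw [emb_values.2.1] at ha
  rw [emb_values.2.2.1] at hb
  rw [emb_values.2.2.2.2.1] at hc
  have hL := conj_emb ι n ha hb hc
  have hit : ∀ (L : Fin 8 → Fin 8) (m : G), (∀ x, m * ι (emb x) * m⁻¹ = ι (emb (L x))) →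
      m ^ 7 = 1 → ∀ x, L^[7] x = x := by
    intro L m hm hm7 x
    have h := conj_iter hm 7 x
    rw [hm7, one_mul, inv_one, mul_one] at h
    exact (emb_inj (hinj h)).symm
  obtain ⟨j, hj⟩ := lmap_facts a b c (fun h => hnot n hn7' (by
    rw [h, emb_values.2.1, mul_inv_eq_iff_eq_mul] at ha
    exact ha)) (hit _ n hL hnpow)
  set g := n ^ j.1 with hg
  have hg7 : g ^ 7 = 1 := by rw [hg, ← pow_mul, mul_comm, pow_mul, hnpow, one_pow]
  have hgt : g * ι τ * g⁻¹ = ι mX := by
    have h := conj_iter hL j.1 1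
    rwa [hj, emb_values.2.1, emb_values.2.2.1] at h
  obtain ⟨b', hb'⟩ : ∃ y, g * ι mX * g⁻¹ = ι (emb y) :=
    ⟨_, emb_values.2.2.1 ▸ conj_iter hL j.1 2⟩
  obtain ⟨c', hc'⟩ : ∃ y, g * ι mB * g⁻¹ = ι (emb y) :=
    ⟨_, emb_values.2.2.2.2.1 ▸ conj_iter hL j.1 4⟩
  have hL' := conj_emb ι g (a := 2) (by rw [hgt, emb_values.2.2.1]) hb' hc'
  obtain ⟨k, hk7, hsg⟩ : ∃ k, k < 7 ∧ ι mS * g * (ι mS)⁻¹ = g ^ k := by
    refine ⟨(k0 % 7).toNat, by omega, ?_⟩
    have he : ((k0 % 7).toNat : ℤ) = k0 % 7 := Int.toNat_of_nonneg (Int.emod_nonneg _ (by norm_num))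
    rw [← zpow_natCast g, he, hg, ← conj_pow, hsn, ← zpow_natCast, ← zpow_natCast n j.1,
      ← zpow_mul, ← zpow_mul, mul_comm k0]
    refine zpow_eq_zpow_iff_modEq.mpr ?_
    rw [hn7']
    exact Int.ModEq.mul_left _ (Int.mod_modEq _ _).symm
  have hsrel : ∀ x, sp (lmap 2 b' c' x) = (lmap 2 b' c')^[k] (sp x) := by
    intro x
    apply emb_inj
    apply hinj
    rw [← conj_iter hL' k (sp x), ← hsg, ← sp_spec, ← sp_spec, map_mul, map_mul, map_mul,
      map_mul, map_inv, ← hL']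
    simp only [← hι]
    group
  rcases lmap_shape b' c' ⟨k, hk7⟩ (hit _ g hL' hg7) hsrel with ⟨h4, rfl, rfl⟩ | ⟨h2, rfl, rfl⟩
  · simp only at h4
    subst h4
    exact ⟨⟨⟨ι, hinj, g, hg7, hgt, by rw [hb', emb_values.2.2.2.2.1],
      by rw [hc', emb_values.2.2.2.1], hsg⟩, hrange⟩⟩
  · simp only at h2
    subst h2
    obtain ⟨f1, f2, f3, f4⟩ := flipM_values
    refine ⟨⟨⟨ι.comp flipM, hinj.comp (Function.LeftInverse.injective flipM_invol), g, hg7,
      by simp [f1, f2, hgt], ?_, ?_, ?_⟩, ?_⟩⟩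
    · simp only [MonoidHom.comp_apply, f2, f3]
      rw [hb', emb_values.2.2.2.2.2.2]
    · simp only [MonoidHom.comp_apply, f2, f3, f1, map_mul]
      calc g * (ι mX * ι mB) * g⁻¹ = g * ι mX * g⁻¹ * (g * ι mB * g⁻¹) := by group
        _ = ι τ * ι mX := by
          rw [hb', hc', ← map_mul, ← map_mul]
          exact congrArg ι mS_facts.2.2
    · simp only [MonoidHom.comp_apply, f4, map_inv, inv_inv]
      have e1 : ι mS * g ^ 4 * (ι mS)⁻¹ = g := by
        rw [← conj_pow, hsg, ← pow_mul, show (2 * 4 : ℕ) = 7 + 1 by norm_num, pow_succ, hg7, one_mul]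
      conv_lhs => arg 1; arg 2; rw [← e1]
      group
    · rw [show (ι.comp flipM).range = ι.range from ?_]
      · simp only [MonoidHom.comp_apply, f1]; exact hrange
      · rw [MonoidHom.range_comp, MonoidHom.range_eq_top.mpr
          (Function.RightInverse.surjective flipM_invol), MonoidHom.range_eq_map]

end Cfsg.Agent.H68.J1
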