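import Cfsg.Agent.H28.CyclicSylow
import Cfsg.Agent.H68.J1.Local

/-!
The centralizer of an element of order five, and the further relation satisfied by the generators.
-/

set_option autoImplicit false
set_option maxRecDepth 4000
set_option maxHeartbeats 1000000
set_option synthInstance.maxSize 4096

namespace Cfsg.Agent.H68.J1

open Cfsg.Agent.H30.TwoTimesA5 (M A τ card_M orbitBy card_orbitBy)

theorem mF_facts : mF ^ 5 = 1 ∧ mF ≠ 1 ∧ τ * mF = mF * τ ∧ mX * mF * mX⁻¹ = mF⁻¹ ∧
    (τ * mX) * mF * (τ * mX)⁻¹ = mF⁻¹ ∧ τ * τ = 1 ∧ mX * mX = 1 ∧ τ * mX = mX * τ := by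
  decide +kernel

theorem mF_commute_two : ∀ m : M, m * mF = mF * m → m ^ 8 = 1 → m = 1 ∨ m = τ := by
  decide +kernel

theorem mF_commute_ten : ∀ m : M, m * mF = mF * m → m ^ 10 = 1 := by decide +kernel

theorem inverted_one : ∀ m : M, m ^ 3 = 1 → m ≠ 1 → emb 5 * m * (emb 5)⁻¹ = m⁻¹ →
    m = evM w0 ∨ m = (evM w0)⁻¹ ∨ m = evM w1 ∨ m = (evM w1)⁻¹ := by decide +kernel

theorem inverted_three : ∀ m : M, m ^ 3 = 1 → m ≠ 1 → emb 6 * m * (emb 6)⁻¹ = m⁻¹ →
    m = evM w2 ∨ m = (evM w2)⁻¹ ∨ m = evM w3 ∨ m = (evM w3)⁻¹ := by decide +kernel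

theorem lmap_std : (lmap 2 4 3)^[1] 1 = 2 ∧ (lmap 2 4 3)^[3] 1 = 3 ∧ (lmap 2 4 3)^[6] 1 = 5 ∧
    (lmap 2 4 3)^[4] 1 = 6 := by decide +kernel

/-- Two commuting involutive permutations of a set of odd size have a common fixed point. -/
theorem common_fixed {α : Type*} [Finite α] (hα : ¬ 2 ∣ Nat.card α) (σ ρ : Equiv.Perm α)
    (hσ : σ * σ = 1) (hρ : ρ * ρ = 1) (hc : σ * ρ = ρ * σ) : ∃ x, σ x = x ∧ ρ x = x := by
  classical
  have : Fact (Nat.Prime 2) := ⟨Nat.prime_two⟩
  have := Fintype.ofFinite α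
  rw [Nat.card_eq_fintype_card] at hα
  have h1 := Equiv.Perm.card_fixedPoints_modEq (n := 1) (p := 2)
    (f := show Function.End α from ⇑σ) (by
      rw [pow_one, pow_two]
      funext x
      exact DFunLike.congr_fun hσ x)
  have hmem : ∀ x, σ x = x ↔ σ (ρ x) = ρ x := fun x => by
    have e : σ (ρ x) = ρ (σ x) := DFunLike.congr_fun hc x
    rw [e, EmbeddingLike.apply_eq_iff_eq]
  have hF : ¬ 2 ∣ Fintype.card {x // σ x = x} := by
    rw [← Nat.card_eq_fintype_card, ← Nat.card_eq_fintype_card] at h1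
    rw [← Nat.card_eq_fintype_card] at hα ⊢
    intro hd
    have hd' : 2 ∣ Nat.card (Function.fixedPoints (show Function.End α from ⇑σ)) := hd
    unfold Nat.ModEq at h1
    omega
  obtain ⟨⟨x, hx⟩, hfix⟩ := Equiv.Perm.exists_fixed_point_of_prime (p := 2) (n := 1) hF
    (σ := ρ.subtypePerm fun x => (hmem x).symm) (by
      rw [pow_one, pow_two]
      ext y
      exact DFunLike.congr_fun hρ y.1)
  exact ⟨x, hx, congrArg Subtype.val hfix⟩

theorem mem_of_odd_order {G : Type*} [Group G] {H : Subgroup G} (hH : H.index = 2) {x : G}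
    (hx : Odd (orderOf x)) : x ∈ H := by
  obtain ⟨k, hk⟩ := hx
  have e : (x ^ 2) ^ (k + 1) = x := by
    rw [← pow_mul, show 2 * (k + 1) = orderOf x + 1 by omega, pow_succ, pow_orderOf_eq_one, one_mul]
  exact e ▸ pow_mem (Subgroup.sq_mem_of_index_two hH x) (k + 1)

namespace Gens

variable {G : Type*} [Group G] (d : Gens G)

theorem conj_std (k : ℕ) (x : Fin 8) :
    d.g ^ k * d.ι (emb x) * (d.g ^ k)⁻¹ = d.ι (emb ((lmap 2 4 3)^[k] x)) :=
  conj_iter (conj_emb d.ι d.g (by rw [d.g_t, emb_values.2.2.1])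
    (by rw [d.g_a, emb_values.2.2.2.2.1]) (by rw [d.g_b, emb_values.2.2.2.1])) k x

theorem mem_range_iff {x : G} : x ∈ d.ι.range ↔ x * d.ι τ = d.ι τ * x := by
  rw [d.range_eq, Subgroup.mem_centralizer_singleton_iff]

theorem orderOf_dvd_120 [Finite G] {q n : G}
    (h : q * (n * d.ι τ * n⁻¹) = (n * d.ι τ * n⁻¹) * q) : orderOf q ∣ 120 := by
  have h' : n⁻¹ * q * n ∈ d.ι.range := d.mem_range_iff.mpr (by
    calc n⁻¹ * q * n * d.ι τ = n⁻¹ * (q * (n * d.ι τ * n⁻¹)) * n := by group
      _ = _ := by rw [h]; group)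
  obtain ⟨m, hm⟩ := h'
  have e : orderOf q = orderOf m := by
    rw [← orderOf_injective d.ι d.inj, hm,
      show n⁻¹ * q * n = MulAut.conj n⁻¹ q by simp, MulEquiv.orderOf_eq]
  rw [e, ← card_M, ← Nat.card_eq_fintype_card]
  exact orderOf_dvd_natCard m

theorem conj_pm_of_normalizes {p : ℕ} [Fact p.Prime] {q w : G} (hq : orderOf q = p)
    (hw : w * w = 1) (h : w * q * w⁻¹ ∈ Subgroup.zpowers q) :
    w * q * w⁻¹ = q ∨ w * q * w⁻¹ = q⁻¹ := by
  obtain ⟨e, he⟩ := h
  simp only at he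
  have h2 : q ^ (e * e) = q ^ (1 : ℤ) := by
    rw [zpow_mul, zpow_one, he, conj_zpow, he]
    rw [inv_eq_of_mul_eq_one_right hw]
    calc w * (w * q * w) * w = (w * w) * q * (w * w) := by group
      _ = q := by rw [hw, one_mul, mul_one]
  rw [zpow_eq_zpow_iff_modEq, hq, ← ZMod.intCast_eq_intCast_iff] at h2
  rw [← he]
  push_cast at h2
  rcases mul_self_eq_one_iff.mp h2 with h3 | h3
  · refine Or.inl ?_
    conv_rhs => rw [← zpow_one q]
    rw [zpow_eq_zpow_iff_modEq, hq, ← ZMod.intCast_eq_intCast_iff]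
    simpa using h3
  · refine Or.inr ?_
    rw [← zpow_neg_one, zpow_eq_zpow_iff_modEq, hq, ← ZMod.intCast_eq_intCast_iff]
    simpa using h3

variable [Finite G]

/-- An element of order three centralized by one of the involutions inverting `mF`. -/
theorem exists_three (hG : Nat.card G = 175560) :
    ∃ q : G, orderOf q = 3 ∧ Commute (d.ι mF) q ∧ d.ι τ * q * (d.ι τ)⁻¹ = q⁻¹ ∧
      (q * (d.g ^ 1 * d.ι τ * (d.g ^ 1)⁻¹) = (d.g ^ 1 * d.ι τ * (d.g ^ 1)⁻¹) * q ∨
        q * (d.g ^ 3 * d.ι τ * (d.g ^ 3)⁻¹) = (d.g ^ 3 * d.ι τ * (d.g ^ 3)⁻¹) * q) := by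
  classical
  have : Fact (Nat.Prime 2) := ⟨Nat.prime_two⟩
  obtain ⟨f5, f1, ft, fX, -, t2, a2, tX⟩ := mF_facts
  set f := d.ι mF with hf
  set t := d.ι τ with ht
  set a := d.ι mX with ha
  set C := Subgroup.centralizer ({f} : Set G) with hC
  have hford : orderOf f = 5 := by
    have : Fact (Nat.Prime 5) := ⟨by norm_num⟩
    rw [hf, orderOf_injective d.ι d.inj]
    exact orderOf_eq_prime f5 f1
  have htf : t * f = f * t := by rw [ht, hf, ← map_mul, ← map_mul, ft]
  have htC : t ∈ C := Subgroup.mem_centralizer_singleton_iff.mpr htf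
  have hfC : f ∈ C := Subgroup.mem_centralizer_singleton_iff.mpr rfl
  have ht2 : t * t = 1 := by rw [ht, ← map_mul, t2, map_one]
  have ha2 : a * a = 1 := by rw [ha, ← map_mul, a2, map_one]
  have hta : t * a = a * t := by rw [ht, ha, ← map_mul, ← map_mul, tX]
  have haf : a * f * a⁻¹ = f⁻¹ := by rw [ha, hf, ← map_inv, ← map_mul, ← map_mul, fX, map_inv]
  have htne : t ≠ 1 := fun h => absurd (d.inj (h.trans (map_one d.ι).symm)) (by decide +kernel)
  have htord : orderOf t = 2 := orderOf_eq_prime (by rw [pow_two, ht2]) htne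
  -- a Sylow 2-subgroup of the centralizer has order two
  have h4 : ¬ 4 ∣ Nat.card C := by
    intro h4
    obtain ⟨R, hR⟩ := (IsPGroup.of_card (p := 2) (n := 1) (G := Subgroup.zpowers (⟨t, htC⟩ : C))
      (by rw [Nat.card_zpowers, Subgroup.orderOf_mk, htord, pow_one])).exists_le_sylow
    have h4R : 4 ∣ Nat.card (R : Subgroup C) :=
      R.pow_dvd_card_of_pow_dvd_card (n := 2) h4
    have htR : (⟨t, htC⟩ : C) ∈ (R : Subgroup C) := hR (Subgroup.mem_zpowers _)
    have key : ∀ r ∈ (R : Subgroup C), (r : G) * t = t * r → (r : G) = 1 ∨ (r : G) = t := by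
      intro r hr hrt
      obtain ⟨m, hm⟩ := d.mem_range_iff.mpr hrt
      have hmf : m * mF = mF * m := d.inj (by
        rw [map_mul, map_mul, hm]; exact Subgroup.mem_centralizer_singleton_iff.mp r.2)
      obtain ⟨k, hk⟩ := R.isPGroup' ⟨r, hr⟩
      have hk' : (r : G) ^ 2 ^ k = 1 := congrArg (fun x : (R : Subgroup C) => ((x : C) : G)) hk
      have hd : orderOf (r : G) ∣ 2 ^ k := orderOf_dvd_of_pow_eq_one hk'
      obtain ⟨j, hj, hje⟩ := (Nat.dvd_prime_pow Nat.prime_two).mp hd
      have h8 : orderOf (r : G) ∣ 8 := by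
        have h120 : orderOf (r : G) ∣ 120 := d.orderOf_dvd_120 (n := 1) (by simpa using hrt)
        rw [hje] at h120 ⊢
        have : j ≤ 3 := by
          by_contra hc
          exact absurd ((pow_dvd_pow 2 (by omega : 4 ≤ j)).trans h120) (by norm_num)
        exact pow_dvd_pow 2 this
      have hm8 : m ^ 8 = 1 := d.inj (by rw [map_pow, hm, map_one]; exact orderOf_dvd_iff_pow_eq_one.mp h8)
      rcases mF_commute_two m hmf hm8 with rfl | rfl
      · exact Or.inl (by rw [← hm, map_one])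
      · exact Or.inr (by rw [← hm])
    have hnt : Nontrivial (R : Subgroup C) := Finite.one_lt_card_iff_nontrivial.mp (by
      have := Nat.le_of_dvd Nat.card_pos h4R; omega)
    have := R.isPGroup'.center_nontrivial
    obtain ⟨z, hz1⟩ := exists_ne (1 : Subgroup.center (R : Subgroup C))
    have hzt : ((z : (R : Subgroup C)) : C) = ⟨t, htC⟩ := by
      have hc := Subgroup.mem_center_iff.mp z.2 ⟨⟨t, htC⟩, htR⟩
      rcases key _ z.1.2 (congrArg (fun x : (R : Subgroup C) => ((x : C) : G)) hc).symm with h | h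
      · exact absurd (Subtype.ext (Subtype.ext (Subtype.ext h))) hz1
      · exact Subtype.ext h
    have hsub : ∀ r : (R : Subgroup C), r = 1 ∨ r = ⟨⟨t, htC⟩, htR⟩ := by
      intro r
      have hc := Subgroup.mem_center_iff.mp z.2 r
      have hc' : (r : C) * ⟨t, htC⟩ = ⟨t, htC⟩ * (r : C) := by
        rw [← hzt]; exact congrArg Subtype.val hc
      rcases key _ r.2 (congrArg Subtype.val hc') with h | h
      · exact Or.inl (Subtype.ext (Subtype.ext h))
      · exact Or.inr (Subtype.ext (Subtype.ext h))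
    have h2 : Nat.card (R : Subgroup C) ≤ Nat.card Bool :=
      Nat.card_le_card_of_surjective (fun b : Bool => if b then 1 else ⟨⟨t, htC⟩, htR⟩) fun r => by
        rcases hsub r with h | h
        · exact ⟨true, h.symm⟩
        · exact ⟨false, h.symm⟩
    rw [Nat.card_eq_fintype_card (α := Bool), Fintype.card_bool] at h2
    have := Nat.le_of_dvd Nat.card_pos h4R
    omega
  have h2C : 2 ∣ Nat.card C := by
    rw [← htord, ← Subgroup.orderOf_mk t htC]; exact orderOf_dvd_natCard _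
  obtain ⟨T⟩ := (inferInstance : Nonempty (Sylow 2 C))
  have hT : IsCyclic (T : Subgroup C) := by
    obtain ⟨k, hk⟩ := IsPGroup.iff_card.mp T.isPGroup'
    have hk1 : k ≤ 1 := by
      by_contra hc
      exact h4 ((pow_dvd_pow 2 (by omega : 2 ≤ k)).trans (hk ▸ Subgroup.card_subgroup_dvd_card _))
    have hk2 : k = 1 := by
      have := T.dvd_card_of_dvd_card h2C
      rw [hk] at this
      rcases k with _ | k
      · norm_num at this
      · omega
    exact isCyclic_of_prime_card (p := 2) (by rw [hk, hk2, pow_one])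
  obtain ⟨H, hH⟩ := H28.exists_index_two_of_cyclic_sylow (even_iff_two_dvd.mpr h2C) T hT
  have hHcard : 2 * Nat.card H = Nat.card C := by rw [mul_comm, ← hH, Subgroup.card_mul_index]
  have hHodd : ¬ 2 ∣ Nat.card H := fun h => h4 (hHcard ▸ Nat.mul_dvd_mul_left 2 h)
  set O : Subgroup G := H.map C.subtype with hO
  have hOcard : Nat.card O = Nat.card H := Subgroup.card_map_of_injective Subtype.val_injective
  -- the two involutions normalise it
  have hnorm : ∀ w : G, (∀ x, x ∈ C → w * x * w⁻¹ ∈ C) →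
      w ∈ Subgroup.normalizer (O : Set G) := by
    intro w hw
    refine mem_normalizer_of_conj fun q hq => ?_
    obtain ⟨q', hq', rfl⟩ := hq
    refine ⟨⟨_, hw _ q'.2⟩, mem_of_odd_order hH ?_, rfl⟩
    rw [Subgroup.orderOf_mk, ← MulAut.conj_apply, MulEquiv.orderOf_eq,
      Subgroup.orderOf_coe]
    refine Nat.odd_iff.mpr ?_
    have := (Subgroup.orderOf_mk q' hq' ▸ orderOf_dvd_natCard (⟨q', hq'⟩ : H))
    by_contra hc
    exact hHodd ((Nat.dvd_of_mod_eq_zero (by omega)).trans this)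
  have hCconj : ∀ w : G, (w * f * w⁻¹ = f ∨ w * f * w⁻¹ = f⁻¹) → ∀ x, x ∈ C → w * x * w⁻¹ ∈ C := by
    intro w hw x hx
    rw [hC, Subgroup.mem_centralizer_singleton_iff] at hx ⊢
    have h1 : (w * x * w⁻¹) * (w * f * w⁻¹) = (w * f * w⁻¹) * (w * x * w⁻¹) := by
      calc _ = w * (x * f) * w⁻¹ := by group
        _ = w * (f * x) * w⁻¹ := by rw [hx]
        _ = _ := by group
    rcases hw with hw | hw
    · rwa [hw] at h1
    · rw [hw] at h1
      exact (Commute.inv_right_iff.mp h1 : Commute _ _)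
  have htN := hnorm t (hCconj t (Or.inl (by rw [htf, mul_inv_cancel_right])))
  have haN := hnorm a (hCconj a (Or.inr haf))
  -- an element of each prime order other than five, normalised by both
  have key : ∀ p : ℕ, p.Prime → p ≠ 2 → p ≠ 5 → ¬ p ^ 2 ∣ 175560 → p ∣ Nat.card O →
      ∃ q : G, orderOf q = p ∧ Commute f q ∧ t * q * t⁻¹ = q⁻¹ ∧
        (q * a = a * q ∨ q * (t * a) = (t * a) * q) := by
    intro p hp hp2 hp5 hsq hpO
    have : Fact p.Prime := ⟨hp⟩
    have hodd : ¬ 2 ∣ Nat.card (Sylow p O) := by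
      intro h
      obtain ⟨P⟩ := (inferInstance : Nonempty (Sylow p O))
      exact hHodd (hOcard ▸ (h.trans P.card_dvd_index).trans (P : Subgroup O).index_dvd_card)
    set φ := Subgroup.normalizerMonoidHom O with hφ
    let tn : Subgroup.normalizer (O : Set G) := ⟨t, htN⟩
    let an : Subgroup.normalizer (O : Set G) := ⟨a, haN⟩
    have e1 : tn * tn = 1 := Subtype.ext ht2
    have e2 : an * an = 1 := Subtype.ext ha2
    have e3 : tn * an = an * tn := Subtype.ext hta
    let perm := MulAction.toPermHom (MulAut O) (Sylow p O)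
    obtain ⟨P, hPt, hPa⟩ := common_fixed hodd (perm (φ tn)) (perm (φ an))
      (by rw [← map_mul, ← map_mul, e1, map_one, map_one])
      (by rw [← map_mul, ← map_mul, e2, map_one, map_one])
      (by rw [← map_mul, ← map_mul, ← map_mul, ← map_mul, e3])
    obtain ⟨k, hk⟩ := IsPGroup.iff_card.mp P.isPGroup'
    have hk1 : k = 1 := by
      have h1 := P.dvd_card_of_dvd_card hpO
      have h2 : p ^ k ∣ 175560 := hG ▸
        ((hk ▸ Subgroup.card_subgroup_dvd_card (P : Subgroup O)).trans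
          (Subgroup.card_subgroup_dvd_card O))
      rw [hk] at h1
      rcases k with _ | _ | k
      · simp [hp.ne_one] at h1
      · rfl
      · exact absurd ((pow_dvd_pow p (by omega : 2 ≤ k + 2)).trans h2) hsq
    rw [hk1, pow_one] at hk
    obtain ⟨r, hr⟩ := exists_prime_orderOf_dvd_card' (G := (P : Subgroup O)) p (by rw [hk])
    have hrgen : Subgroup.zpowers (r : O) = (P : Subgroup O) :=
      Subgroup.eq_of_le_of_card_ge (Subgroup.zpowers_le.mpr r.2)
        (by rw [Nat.card_zpowers, Subgroup.orderOf_coe, hr, hk])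
    set q : G := ((r : O) : G) with hqdef
    have hq : orderOf q = p := by rw [hqdef, Subgroup.orderOf_coe, Subgroup.orderOf_coe, hr]
    have hqC : q ∈ C := by
      obtain ⟨q', -, e⟩ := (r : O).2
      exact (show (q' : G) = q from e) ▸ q'.2
    have hfq : Commute f q := (Subgroup.mem_centralizer_singleton_iff.mp hqC).symm
    have hfix : ∀ (w : Subgroup.normalizer (O : Set G)), perm (φ w) P = P →
        (w : G) * q * (w : G)⁻¹ ∈ Subgroup.zpowers q := by
      intro w hw
      have h1 : φ w (r : O) ∈ ((φ w • P : Sylow p O) : Subgroup O) := by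
        rw [Sylow.pointwise_smul_def]
        exact ⟨r, r.2, rfl⟩
      rw [show φ w • P = P from hw] at h1
      obtain ⟨e, he⟩ := (SetLike.ext_iff.mp hrgen _).mpr h1
      exact ⟨e, (congrArg Subtype.val he :)⟩
    have hpm := fun w hw hw2 => conj_pm_of_normalizes (p := p) hq hw2 (hfix w hw)
    have htq : t * q * t⁻¹ = q⁻¹ := by
      refine (hpm tn hPt ht2).resolve_left fun h => ?_
      obtain ⟨m, hm⟩ := d.mem_range_iff.mpr (show q * t = t * q from
        (mul_inv_eq_iff_eq_mul.mp h).symm)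
      have hmf : m * mF = mF * m := d.inj (by rw [map_mul, map_mul, hm]; exact hfq.eq.symm)
      have h10 : q ^ 10 = 1 := by rw [← hm, ← map_pow, mF_commute_ten m hmf, map_one]
      have := hq ▸ orderOf_dvd_of_pow_eq_one h10
      rcases (Nat.Prime.dvd_mul hp).mp (show p ∣ 2 * 5 from this) with h | h
      · exact hp2 ((Nat.prime_dvd_prime_iff_eq hp Nat.prime_two).mp h)
      · exact hp5 ((Nat.prime_dvd_prime_iff_eq hp (by norm_num)).mp h)
    refine ⟨q, hq, hfq, htq, (hpm an hPa ha2).imp (fun h => ?_) fun h => ?_⟩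
    · exact (mul_inv_eq_iff_eq_mul.mp h).symm
    · refine ((mul_inv_eq_iff_eq_mul (a := (t * a) * q) (b := t * a) (c := q)).mp ?_).symm
      calc t * a * q * (t * a)⁻¹ = t * (a * q * a⁻¹) * t⁻¹ := by group
        _ = t * q⁻¹ * t⁻¹ := by rw [h]
        _ = (t * q * t⁻¹)⁻¹ := by group
        _ = q := by rw [htq, inv_inv]
  have ga : a = d.g ^ 1 * t * (d.g ^ 1)⁻¹ := by rw [pow_one, d.g_t]
  have gta : t * a = d.g ^ 3 * t * (d.g ^ 3)⁻¹ := by
    have h := d.conj_std 3 1
    rw [lmap_std.2.1, emb_values.2.1, emb_values.2.2.2.1, map_mul] at h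
    exact h.symm
  have no : ∀ p : ℕ, p.Prime → ¬ p ∣ 120 → ¬ p ^ 2 ∣ 175560 → ¬ p ∣ Nat.card O := by
    intro p hp hp120 hsq hpO
    obtain ⟨q, hq, -, -, h⟩ := key p hp (fun h => hp120 (h ▸ by norm_num))
      (fun h => hp120 (h ▸ by norm_num)) hsq hpO
    rcases h with h | h
    · rw [ga] at h; exact hp120 (hq ▸ d.orderOf_dvd_120 h)
    · rw [gta] at h; exact hp120 (hq ▸ d.orderOf_dvd_120 h)
  have h5O : 5 ∣ Nat.card O := by
    rw [hOcard]
    refine hford ▸ ?_
    rw [← Subgroup.orderOf_mk f hfC]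
    have hm : (⟨f, hfC⟩ : C) ∈ H := mem_of_odd_order hH (by rw [Subgroup.orderOf_mk, hford]; decide)
    rw [← Subgroup.orderOf_mk (⟨f, hfC⟩ : C) hm]
    exact orderOf_dvd_natCard _
  have hO15 : Nat.card O ∣ 15 := by
    have h1 : Nat.card O ∣ 175560 := hG ▸ Subgroup.card_subgroup_dvd_card O
    have c2 : Nat.Coprime (Nat.card O) 8 := by
      rw [show (8 : ℕ) = 2 ^ 3 from rfl]
      exact Nat.Coprime.pow_right 3 ((Nat.prime_two.coprime_iff_not_dvd.mpr (hOcard ▸ hHodd)).symm)
    have cp : ∀ p, p.Prime → ¬ p ∣ 120 → ¬ p ^ 2 ∣ 175560 → Nat.Coprime (Nat.card O) p :=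
      fun p hp h h' => (hp.coprime_iff_not_dvd.mpr (no p hp h h')).symm
    have c := ((c2.mul_right (cp 7 (by norm_num) (by norm_num) (by norm_num))).mul_right
      (cp 11 (by norm_num) (by norm_num) (by norm_num))).mul_right
      (cp 19 (by norm_num) (by norm_num) (by norm_num))
    exact c.dvd_of_dvd_mul_right (show Nat.card O ∣ 15 * (8 * 7 * 11 * 19) from h1)
  have h3O : 3 ∣ Nat.card O := by
    by_contra h3
    have hO5 : Nat.card O = 5 := by
      have := Nat.le_of_dvd (by norm_num) hO15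
      interval_cases (Nat.card O) <;> omega
    have hC10 : Nat.card C = 10 := by omega
    set N := Subgroup.normalizer ((Subgroup.zpowers f : Subgroup G) : Set G) with hN
    have hCN : C ≤ N := fun x hx => mem_normalizer_of_conj fun q hq => by
      obtain ⟨e, rfl⟩ := hq
      refine ⟨e, ?_⟩
      show f ^ e = x * f ^ e * x⁻¹
      rw [← conj_zpow, Subgroup.mem_centralizer_singleton_iff.mp hx, mul_inv_cancel_right]
    have h := card_orbitBy N (x := f) (hCN hfC)
    rw [inf_eq_right.mpr hCN, hC10] at h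
    have hpair : ({f, f⁻¹} : Set G) ⊆ orbitBy N f := by
      rintro x (rfl | rfl)
      · exact ⟨1, one_mem _, by group⟩
      · refine ⟨a, mem_normalizer_of_conj fun q hq => ?_, haf⟩
        obtain ⟨e, rfl⟩ := hq
        exact ⟨-e, by simp only; rw [← conj_zpow, haf, inv_zpow']⟩
    have hsub : orbitBy N f ⊆ ↑({f, f ^ 2, f ^ 3, f ^ 4} : Finset G) := by
      rintro x ⟨n, hn, rfl⟩
      obtain ⟨e, he⟩ := (Subgroup.mem_normalizer_iff.mp hn f).mp (Subgroup.mem_zpowers f)
      simp only at he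
      rw [← zpow_mod_orderOf, hford] at he
      have hne : n * f * n⁻¹ ≠ 1 := fun h => f1 (d.inj ((conj_eq_one_iff.mp h).trans (map_one d.ι).symm))
      have h0 := Int.emod_nonneg e (show ((5 : ℕ) : ℤ) ≠ 0 by norm_num)
      have h5 := Int.emod_lt_of_pos e (show (0 : ℤ) < ((5 : ℕ) : ℤ) by norm_num)
      obtain ⟨k, hk⟩ := Int.eq_ofNat_of_zero_le h0
      rw [hk] at he h5
      rw [zpow_natCast] at he
      have hk5 : k < 5 := by omega
      simp only [Finset.coe_insert, Finset.coe_singleton, Set.mem_insert_iff, Set.mem_singleton_iff]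
      rw [← he] at hne ⊢
      interval_cases k
      · exact absurd (pow_zero f) hne
      · exact Or.inl (pow_one f)
      · exact Or.inr (Or.inl rfl)
      · exact Or.inr (Or.inr (Or.inl rfl))
      · exact Or.inr (Or.inr (Or.inr rfl))
    have hfne : f ≠ f⁻¹ := fun h => by
      have : f ^ 2 = 1 := by rw [pow_two]; nth_rw 2 [h]; exact mul_inv_cancel f
      have := hford ▸ orderOf_dvd_of_pow_eq_one this
      norm_num at this
    have hlo : 2 ≤ Nat.card (orbitBy N f) := by
      rw [Nat.card_coe_set_eq, ← Set.ncard_pair hfne]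
      exact Set.ncard_le_ncard hpair (Set.toFinite _)
    have hhi : Nat.card (orbitBy N f) ≤ 4 := by
      rw [Nat.card_coe_set_eq]
      refine (Set.ncard_le_ncard hsub (Finset.finite_toSet _)).trans ?_
      rw [Set.ncard_coe_finset]
      exact Finset.card_le_four
    have hidx : N.index % 5 = 1 := by
      have : Fact (Nat.Prime 5) := ⟨by norm_num⟩
      let P5 : Sylow 5 G := Sylow.ofCard (Subgroup.zpowers f) (by
        rw [Nat.card_zpowers, hford, hG, show (175560 : ℕ) = 5 ^ 1 * 35112 by norm_num,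
          Nat.factorization_mul_of_coprime (by norm_num : Nat.Coprime (5 ^ 1) 35112),
          Finsupp.add_apply, Nat.Prime.factorization_pow (by norm_num : Nat.Prime 5),
          Finsupp.single_eq_same, Nat.factorization_eq_zero_of_not_dvd (by norm_num : ¬ 5 ∣ 35112)]
        norm_num)
      have h1 := card_sylow_modEq_one 5 G
      rw [P5.card_eq_index_normalizer] at h1
      exact h1
    have hmul := N.card_mul_index
    rw [← h, hG] at hmul
    generalize Nat.card (orbitBy N f) = c at hlo hhi hmul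
    interval_cases c <;> omega
  obtain ⟨q, hq, hfq, htq, h⟩ := key 3 Nat.prime_three (by norm_num) (by norm_num) (by norm_num) h3O
  refine ⟨q, hq, hfq, htq, ?_⟩
  rcases h with h | h
  · exact Or.inl (ga ▸ h)
  · exact Or.inr (gta ▸ h)

omit [Finite G] in
/-- The conjugating power brings the element of order three into the centralizer. -/
theorem pull_back {q : G} (hq : orderOf q = 3) (hf : Commute (d.ι mF) q)
    (ht : d.ι τ * q * (d.ι τ)⁻¹ = q⁻¹) {i j : ℕ} (hij : i + j = 7)
    (h : q * (d.g ^ i * d.ι τ * (d.g ^ i)⁻¹) = (d.g ^ i * d.ι τ * (d.g ^ i)⁻¹) * q) :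
    ∃ m : M, m ^ 3 = 1 ∧ m ≠ 1 ∧
      emb ((lmap 2 4 3)^[j] 1) * m * (emb ((lmap 2 4 3)^[j] 1))⁻¹ = m⁻¹ ∧
      Commute (d.ι mF) (d.g ^ i * d.ι m * (d.g ^ i)⁻¹) := by
  set n := d.g ^ i with hn
  obtain ⟨m, hm⟩ := (d.mem_range_iff (x := n⁻¹ * q * n)).mpr (by
    calc n⁻¹ * q * n * d.ι τ = n⁻¹ * (q * (n * d.ι τ * n⁻¹)) * n := by group
      _ = _ := by rw [h]; group)
  have hqm : q = n * d.ι m * n⁻¹ := by rw [hm]; group
  have hinv : d.g ^ j = n⁻¹ := eq_inv_of_mul_eq_one_left (by
    rw [hn, ← pow_add, add_comm, hij, d.g7])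
  refine ⟨m, d.inj ?_, fun h1 => ?_, d.inj ?_, hqm ▸ hf⟩
  · rw [map_pow, map_one, hm, show n⁻¹ * q * n = MulAut.conj n⁻¹ q by simp, ← map_pow,
      ← hq, pow_orderOf_eq_one, map_one]
  · rw [h1, map_one, mul_one, mul_inv_cancel] at hqm
    rw [hqm, orderOf_one] at hq
    omega
  · rw [map_mul, map_mul, map_inv, map_inv, ← d.conj_std j 1, emb_values.2.1, hinv, hm]
    calc _ = n⁻¹ * (d.ι τ * q * (d.ι τ)⁻¹) * n := by group
      _ = _ := by rw [ht]; group

/-- The further relation. -/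
theorem commute_good (hG : Nat.card G = 175560) :
    Commute (d.ι mF) (d.g ^ 3 * d.ι (evM w3) * (d.g ^ 3)⁻¹) := by
  obtain ⟨q, hq, hf, ht, h⟩ := d.exists_three hG
  have hinv : ∀ (i : ℕ) (m : M), Commute (d.ι mF) (d.g ^ i * d.ι m⁻¹ * (d.g ^ i)⁻¹) →
      Commute (d.ι mF) (d.g ^ i * d.ι m * (d.g ^ i)⁻¹) := by
    intro i m hc
    have := hc.inv_right
    rwa [map_inv, show (d.g ^ i * (d.ι m)⁻¹ * (d.g ^ i)⁻¹)⁻¹ = d.g ^ i * d.ι m * (d.g ^ i)⁻¹ by
      group] at this
  rcases h with h | h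
  · obtain ⟨m, h3, h1, hv, hc⟩ := d.pull_back hq hf ht (i := 1) (j := 6) rfl h
    rw [lmap_std.2.2.1] at hv
    exfalso
    rcases inverted_one m h3 h1 hv with rfl | rfl | rfl | rfl
    · exact d.no_collapse hasWords0 rfl (by decide) hc
    · exact d.no_collapse hasWords0 rfl (by decide) (hinv _ _ hc)
    · exact d.no_collapse hasWords1 rfl (by decide) hc
    · exact d.no_collapse hasWords1 rfl (by decide) (hinv _ _ hc)
  · obtain ⟨m, h3, h1, hv, hc⟩ := d.pull_back hq hf ht (i := 3) (j := 4) rfl h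
    rw [lmap_std.2.2.2] at hv
    rcases inverted_three m h3 h1 hv with rfl | rfl | rfl | rfl
    · exact (d.no_collapse hasWords2 rfl (by decide) hc).elim
    · exact (d.no_collapse hasWords2 rfl (by decide) (hinv _ _ hc)).elim
    · exact hc
    · exact hinv _ _ hc

end Gens

end Cfsg.Agent.H68.J1
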