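import Cfsg.Agent.H68.J1.Five

/-!
Uniqueness of a simple group of order 175560 with involution centralizer `C2 × A5`.
-/

set_option autoImplicit false
set_option maxRecDepth 4000
set_option maxHeartbeats 1000000
set_option synthInstance.maxSize 4096

namespace Cfsg.Agent.H68.J1

open Cfsg.Agent.H30.TwoTimesA5 (M τ card_M Setting)

theorem gen_orders : mS ^ 3 = 1 ∧ mS ≠ 1 ∧ τ = evM [0] ∧ mX = evM [2] := by decide +kernel

theorem lmap_reach : ∀ z : Fin 8, z ≠ 0 → ∃ j : Fin 7, (lmap 2 4 3)^[j.1] 1 = z := by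
  decide +kernel

theorem invol_conj : ∀ m : M, m.1 = 1 → m * m = 1 → m ≠ 1 → ∃ k : M, k * mX * k⁻¹ = m := by
  decide +kernel

theorem invol_count : Fintype.card {m : M // m.1 = 1 ∧ m * m = 1 ∧ m ≠ 1} = 15 := by
  decide +kernel

namespace PreGens

variable {G : Type*} [Group G] (d : PreGens G)

theorem range_le : d.ι.range ≤ d.K := by
  have : Fact (Nat.Prime 3) := ⟨Nat.prime_three⟩
  have : Fact (Nat.Prime 5) := ⟨by norm_num⟩
  set J := d.K.comap d.ι with hJ
  have hev : ∀ w : List Nat, (w.all fun l => decide (l < 6)) = true → evM w ∈ J := by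
    intro w hw
    rw [hJ, Subgroup.mem_comap, ← d.ev_small w hw]
    clear hw
    induction w with
    | nil => exact one_mem _
    | cons l w ih => exact mul_mem (d.gen_mem l) ih
  have h8 : V8 ≤ J := by
    intro m hm
    obtain ⟨x, rfl⟩ := exists_emb m (mem_V8.mp hm).1 (mem_V8.mp hm).2
    rw [emb]
    have hite : ∀ (p : Prop) [Decidable p] (m : M), m ∈ J → (if p then m else 1) ∈ J := by
      intro p _ m hm
      split_ifs
      · exact hm
      · exact J.one_mem
    exact mul_mem (mul_mem (hite _ _ (gen_orders.2.2.1 ▸ hev [0] (by decide)))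
      (hite _ _ (gen_orders.2.2.2 ▸ hev [2] (by decide)))) (hite _ mB (hev wB (by decide)))
  have d3 : 3 ∣ Nat.card J := by
    rw [← orderOf_eq_prime gen_orders.1 gen_orders.2.1, ← Subgroup.orderOf_mk mS (hev wS (by decide))]
    exact orderOf_dvd_natCard _
  have d5 : 5 ∣ Nat.card J := by
    have hm : mF ∈ J := hev wF (by decide)
    have h := orderOf_dvd_natCard (⟨mF, hm⟩ : J)
    rwa [← Subgroup.orderOf_coe, orderOf_eq_prime (mF_facts.1) (mF_facts.2.1)] at h
  have d8 : 8 ∣ Nat.card J := card_V8 ▸ Subgroup.card_dvd_of_le h8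
  have h120 : 8 * 3 * 5 ∣ Nat.card J :=
    (show Nat.Coprime (8 * 3) 5 by norm_num).mul_dvd_of_dvd_of_dvd
      ((show Nat.Coprime 8 3 by norm_num).mul_dvd_of_dvd_of_dvd d8 d3) d5
  have htop : J = ⊤ := Subgroup.eq_top_of_card_eq _ (le_antisymm (Subgroup.card_le_card_group J) (by
    rw [Nat.card_eq_fintype_card (α := M), card_M]
    exact Nat.le_of_dvd Nat.card_pos h120))
  rintro _ ⟨m, rfl⟩
  have hm : m ∈ J := by rw [htop]; exact Subgroup.mem_top m
  exact hm

end PreGens

namespace Gens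

variable {G : Type*} [Group G] [Finite G] (d : Gens G)

theorem mem_K_of_conj {x : G} (h : x⁻¹ * d.ι τ * x ∈ d.K) (h8 : ¬ 16 ∣ Nat.card G) : x ∈ d.K := by
  have : Fact (Nat.Prime 2) := ⟨Nat.prime_two⟩
  have hle := d.toPreGens.range_le
  set y : d.K := ⟨_, h⟩ with hy
  have hPle : V8.map d.ι ≤ d.K := (Subgroup.map_le_range _ _).trans hle
  have hP8 : Nat.card ((V8.map d.ι).subgroupOf d.K) = 8 := by
    rw [Nat.card_congr (Subgroup.subgroupOfEquivOfLe hPle).toEquiv,
      Subgroup.card_map_of_injective d.inj, card_V8]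
  obtain ⟨R, hR⟩ := (IsPGroup.of_card (p := 2) (n := 3) (G := (V8.map d.ι).subgroupOf d.K)
    (by rw [hP8]; norm_num)).exists_le_sylow
  have hReq : (R : Subgroup d.K) = (V8.map d.ι).subgroupOf d.K := by
    refine (Subgroup.eq_of_le_of_card_ge hR ?_).symm
    rw [hP8]
    obtain ⟨k, hk⟩ := IsPGroup.iff_card.mp R.isPGroup'
    rw [hk]
    have hk3 : k ≤ 3 := by
      by_contra hc
      exact h8 (((pow_dvd_pow 2 (by omega : 4 ≤ k)).trans
        (hk ▸ Subgroup.card_subgroup_dvd_card _)).trans (Subgroup.card_subgroup_dvd_card d.K))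
    exact Nat.pow_le_pow_right (by norm_num) hk3
  have hy2 : y * y = 1 := Subtype.ext (by
    show x⁻¹ * d.ι τ * x * (x⁻¹ * d.ι τ * x) = 1
    calc _ = x⁻¹ * (d.ι τ * d.ι τ) * x := by group
      _ = 1 := by rw [← map_mul, mF_facts.2.2.2.2.2.1, map_one]; group)
  have hy1 : y ≠ 1 := fun e => by
    have e' : x⁻¹ * d.ι τ * x⁻¹⁻¹ = 1 := by rw [inv_inv]; exact congrArg Subtype.val e
    exact absurd (d.inj ((conj_eq_one_iff.mp e').trans (map_one d.ι).symm)) (by decide +kernel)
  obtain ⟨Q, hQ⟩ := (IsPGroup.of_card (p := 2) (n := 1) (G := Subgroup.zpowers y)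
    (by rw [Nat.card_zpowers, orderOf_eq_prime (by rw [pow_two, hy2]) hy1, pow_one])).exists_le_sylow
  obtain ⟨k, hk⟩ := MulAction.exists_smul_eq d.K Q R
  have hmem : k * y * k⁻¹ ∈ (R : Subgroup d.K) := by
    rw [← hk, Sylow.coe_subgroup_smul]
    exact ⟨y, hQ (Subgroup.mem_zpowers y), rfl⟩
  rw [hReq, Subgroup.mem_subgroupOf] at hmem
  obtain ⟨m, hm, hme⟩ := Subgroup.mem_map.mp hmem
  obtain ⟨z, rfl⟩ := exists_emb m (mem_V8.mp hm).1 (mem_V8.mp hm).2
  have hz : z ≠ 0 := fun e => hy1 (conj_eq_one_iff.mp (Subtype.ext (by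
    rw [← hme, e, emb_values.1, map_one]; rfl) : k * y * k⁻¹ = 1))
  obtain ⟨j, rfl⟩ := lmap_reach z hz
  rw [← d.conj_std j.1 1, emb_values.2.1] at hme
  simp only [Subgroup.coe_mul, Subgroup.coe_inv, hy] at hme
  set n := x * (k : G)⁻¹ * d.g ^ j.1 with hn
  have hc : n * d.ι τ * n⁻¹ = d.ι τ := by
    calc n * d.ι τ * n⁻¹ = x * (k : G)⁻¹ * (d.g ^ j.1 * d.ι τ * (d.g ^ j.1)⁻¹) * k * x⁻¹ := by
          rw [hn]; group
      _ = d.ι τ := by rw [hme]; group
  have hnK : n ∈ d.K := hle (d.mem_range_iff.mpr (mul_inv_eq_iff_eq_mul.mp hc))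
  have hgK : d.g ^ j.1 ∈ d.K := pow_mem (d.toPreGens.gen_mem 6) _
  have e : x = n * (d.g ^ j.1)⁻¹ * k := by rw [hn]; group
  rw [e]
  exact mul_mem (mul_mem hnK (inv_mem hgK)) k.2

theorem K_eq_top [IsSimpleGroup G] (hG : Nat.card G = 175560) : d.K = ⊤ := by
  classical
  have : Fact (Nat.Prime 2) := ⟨Nat.prime_two⟩
  have : Fact (Nat.Prime 7) := ⟨by norm_num⟩
  have hle := d.toPreGens.range_le
  have h16 : ¬ 16 ∣ Nat.card G := by rw [hG]; norm_num
  have hrange : Nat.card d.ι.range = 120 := by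
    rw [← Nat.card_congr (MonoidHom.ofInjective d.inj).toEquiv, Nat.card_eq_fintype_card, card_M]
  have h120 : 120 ∣ Nat.card d.K := hrange ▸ Subgroup.card_dvd_of_le hle
  have h7 : 7 ∣ Nat.card d.K := by
    have hg : orderOf d.g = 7 := orderOf_eq_prime d.g7 fun h => d.g_not_mem (h ▸ one_mem _)
    rw [← hg, ← Subgroup.orderOf_mk d.g (d.toPreGens.gen_mem 6)]
    exact orderOf_dvd_natCard _
  obtain ⟨c, hc⟩ := (show Nat.Coprime 120 7 by norm_num).mul_dvd_of_dvd_of_dvd h120 h7
  have hmul := d.K.card_mul_index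
  rw [hc, hG] at hmul
  by_contra htop
  have hd1 : d.K.index ≠ 1 := fun h => htop (Subgroup.index_eq_one.mp h)
  have hd : d.K.index ∣ 209 := ⟨c, by linarith⟩
  have hd' : d.K.index = 11 ∨ d.K.index = 19 ∨ d.K.index = 209 := by
    have h := Nat.mem_divisors.mpr ⟨hd, by norm_num⟩
    rw [show Nat.divisors 209 = {1, 11, 19, 209} by decide +kernel] at h
    simp at h
    tauto
  rcases hd' with hd' | hd' | hd'
  rotate_left 2
  · -- the conjugacy class of the involution in `K` is too small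
    have hc1 : c = 1 := by rw [hd'] at hmul; linarith
    have h7' : (d.ι.range.subgroupOf d.K).index = 7 := by
      have h := (d.ι.range.subgroupOf d.K).card_mul_index
      rw [Nat.card_congr (Subgroup.subgroupOfEquivOfLe hle).toEquiv, hrange, hc, hc1] at h
      omega
    choose k hk using fun m : {m : M // m.1 = 1 ∧ m * m = 1 ∧ m ≠ 1} =>
      invol_conj m.1 m.2.1 m.2.2.1 m.2.2.2
    let f : {m : M // m.1 = 1 ∧ m * m = 1 ∧ m ≠ 1} → d.K ⧸ d.ι.range.subgroupOf d.K := fun m =>
      QuotientGroup.mk (⟨d.ι (k m) * d.g, mul_mem (hle ⟨_, rfl⟩) (d.toPreGens.gen_mem 6)⟩ : d.K)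
    have hf : Function.Injective f := by
      intro m m' h
      rw [QuotientGroup.eq, Subgroup.mem_subgroupOf] at h
      have h' := d.mem_range_iff.mp h
      simp only [Subgroup.coe_mul, Subgroup.coe_inv] at h'
      refine Subtype.ext (d.inj ?_)
      rw [← hk m, ← hk m', map_mul, map_mul, map_mul, map_mul, map_inv, map_inv, ← d.g_t]
      set u := d.ι (k m)
      set v := d.ι (k m')
      calc u * (d.g * d.ι τ * d.g⁻¹) * u⁻¹
          = (u * d.g) * (d.ι τ * ((u * d.g)⁻¹ * (v * d.g))) * (v * d.g)⁻¹ := by group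
        _ = (u * d.g) * (((u * d.g)⁻¹ * (v * d.g)) * d.ι τ) * (v * d.g)⁻¹ := by rw [h']
        _ = _ := by group
    have := Nat.card_le_card_of_injective f hf
    rw [Nat.card_eq_fintype_card, invol_count, ← Subgroup.index_eq_card, h7'] at this
    omega
  all_goals
    set ρ := MulAction.toPermHom G (G ⧸ d.K)
    have : Fintype (G ⧸ d.K) := Fintype.ofFinite _
    have hfix : ∀ q : G ⧸ d.K, ρ (d.ι τ) q = q ↔ q = ((1 : G) : G ⧸ d.K) := by
      intro q
      obtain ⟨x, rfl⟩ := QuotientGroup.mk_surjective q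
      show d.ι τ • (x : G ⧸ d.K) = x ↔ _
      rw [MulAction.Quotient.smul_coe, smul_eq_mul, QuotientGroup.eq, QuotientGroup.eq, mul_one]
      constructor
      · intro h
        refine inv_mem (d.mem_K_of_conj ?_ h16)
        have h2 := inv_mem h
        have e : (d.ι τ * x)⁻¹ * x = x⁻¹ * (d.ι τ)⁻¹ * x := by group
        rw [e, show (x⁻¹ * (d.ι τ)⁻¹ * x)⁻¹ = x⁻¹ * d.ι τ * x by group] at h2
        exact h2
      · intro h
        have hx : x ∈ d.K := inv_inv x ▸ inv_mem h
        exact mul_mem (inv_mem (mul_mem (hle ⟨_, rfl⟩) hx)) hx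
    have hsupp : (ρ (d.ι τ)).support = Finset.univ.erase ((1 : G) : G ⧸ d.K) := by
      ext q
      simp [Equiv.Perm.mem_support, hfix]
    have hcard : (ρ (d.ι τ)).support.card = d.K.index - 1 := by
      rw [hsupp, Finset.card_erase_of_mem (Finset.mem_univ _), Finset.card_univ,
        ← Nat.card_eq_fintype_card, ← Subgroup.index_eq_card]
    have hord : orderOf (ρ (d.ι τ)) = 2 := by
      refine orderOf_eq_prime (by rw [pow_two, ← map_mul, ← map_mul, mF_facts.2.2.2.2.2.1,
        map_one, map_one]) fun h => ?_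
      rw [h, Equiv.Perm.support_one, Finset.card_empty] at hcard
      omega
    obtain ⟨n, hn⟩ := Equiv.Perm.cycleType_prime_order (hord.symm ▸ Nat.prime_two)
    rw [hord] at hn
    have hsum := Equiv.Perm.sum_cycleType (ρ (d.ι τ))
    rw [hn, Multiset.sum_replicate, hcard, smul_eq_mul] at hsum
    have hsign : Equiv.Perm.sign (ρ (d.ι τ)) = -1 := by
      rw [Equiv.Perm.sign_of_cycleType, hn, Multiset.sum_replicate, Multiset.card_replicate,
        smul_eq_mul]
      exact Odd.neg_one_pow (Nat.odd_iff.mpr (by omega))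
    have hker : (Equiv.Perm.sign.comp ρ).ker.Normal := inferInstance
    rcases hker.eq_bot_or_eq_top with h | h
    · have := Nat.card_le_card_of_injective _ ((MonoidHom.ker_eq_bot_iff _).mp h)
      rw [hG, Nat.card_eq_fintype_card, Fintype.card_units_int] at this
      omega
    · have hm : d.ι τ ∈ (Equiv.Perm.sign.comp ρ).ker := by rw [h]; exact Subgroup.mem_top _
      have h1 : Equiv.Perm.sign (ρ (d.ι τ)) = 1 := MonoidHom.mem_ker.mp hm
      rw [hsign] at h1
      exact absurd h1 (by decide)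

end Gens

/-- The pairing of two systems of generators. -/
def PreGens.pair {G H : Type*} [Group G] [Group H] (d : PreGens G) (d' : PreGens H) :
    PreGens (G × H) where
  ι := d.ι.prod d'.ι
  inj := fun _ _ h => d.inj (congrArg Prod.fst h)
  g := (d.g, d'.g)
  g7 := Prod.ext d.g7 d'.g7
  g_t := Prod.ext d.g_t d'.g_t
  g_a := Prod.ext d.g_a d'.g_a
  g_b := Prod.ext d.g_b d'.g_b
  g_s := Prod.ext d.g_s d'.g_s

theorem cert3_n : Cert3.cert.n = 1463 := rfl

/-- Two such groups are isomorphic. -/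
theorem Gens.iso {G H : Type*} [Group G] [Finite G] [IsSimpleGroup G] [Group H] [Finite H]
    [IsSimpleGroup H] (d : Gens G) (d' : Gens H) (hG : Nat.card G = 175560)
    (hH : Nat.card H = 175560) : Nonempty (G ≃* H) := by
  set D := d.toPreGens.pair d'.toPreGens with hD
  have hgen : ∀ l, D.gen l = (d.gen l, d'.gen l) := by
    intro l
    by_cases h6 : l = 6
    · subst h6; rfl
    by_cases h7 : l = 7
    · subst h7; rfl
    simp [PreGens.gen, hD, PreGens.pair]
  have hc : Commute (D.ι mF) (D.g ^ 3 * D.ι (evM w3) * (D.g ^ 3)⁻¹) :=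
    Prod.ext (d.commute_good hG).eq (d'.commute_good hH).eq
  obtain ⟨-, hidx⟩ := D.index_le hasWords3 (by decide) hc
  rw [cert3_n] at hidx
  have hcard : Nat.card D.K ≤ 175560 := by
    rw [← (D.ι.range.subgroupOf D.K).card_mul_index,
      Nat.card_congr (Subgroup.subgroupOfEquivOfLe D.range_le).toEquiv,
      ← Nat.card_congr (MonoidHom.ofInjective D.inj).toEquiv, Nat.card_eq_fintype_card, card_M]
    omega
  let p1 : D.K →* G := (MonoidHom.fst G H).comp D.K.subtype
  let p2 : D.K →* H := (MonoidHom.snd G H).comp D.K.subtype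
  have s1 : Function.Surjective p1 := by
    rw [← MonoidHom.range_eq_top, eq_top_iff, ← d.K_eq_top hG]
    unfold PreGens.K
    rw [Subgroup.closure_le]
    rintro _ ⟨l, -, rfl⟩
    exact ⟨⟨D.gen l, D.gen_mem l⟩, congrArg Prod.fst (hgen l)⟩
  have s2 : Function.Surjective p2 := by
    rw [← MonoidHom.range_eq_top, eq_top_iff, ← d'.K_eq_top hH]
    unfold PreGens.K
    rw [Subgroup.closure_le]
    rintro _ ⟨l, -, rfl⟩
    exact ⟨⟨D.gen l, D.gen_mem l⟩, congrArg Prod.snd (hgen l)⟩
  have c1 : Nat.card D.K = Nat.card G :=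
    le_antisymm (hG ▸ hcard) (Nat.card_le_card_of_surjective p1 s1)
  have c2 : Nat.card D.K = Nat.card H :=
    le_antisymm (hH ▸ hcard) (Nat.card_le_card_of_surjective p2 s2)
  exact ⟨(MulEquiv.ofBijective p1 ((Nat.bijective_iff_surjective_and_card p1).mpr ⟨s1, c1⟩)).symm.trans
    (MulEquiv.ofBijective p2 ((Nat.bijective_iff_surjective_and_card p2).mpr ⟨s2, c2⟩))⟩

/-- Simple groups of order 175560 with involution centralizer `C2 × A5` are isomorphic. -/
theorem iso_of_setting {G H : Type*} [Group G] [Finite G] [IsSimpleGroup G] [Group H] [Finite H]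
    [IsSimpleGroup H] (S : Setting G) (T : Setting H) (hG : Nat.card G = 175560)
    (hH : Nat.card H = 175560) : Nonempty (G ≃* H) := by
  obtain ⟨d⟩ := exists_gens S hG
  obtain ⟨d'⟩ := exists_gens T hH
  exact d.iso d' hG hH

end Cfsg.Agent.H68.J1
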